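import Mathlib
import Cfsg.Agent.Lib.Helper14.TC3Stmt
import Cfsg.Agent.Lib.Helper3.TDBasic

/-!
# S4460 piece W1 (helper14's call): restriction to a normal subgroup of `p`-power index of an
irreducible character of degree prime to `p` is irreducible.
-/

set_option autoImplicit false

namespace Cfsg.Agent.Lib.Helper53.TC3W1

open Cfsg Cfsg.Agent.Lib.Helper14.TC3Stmt
open Cfsg.Agent.Lib.Helper80.Integrality

universe u

/-- Restriction of an irreducible character of degree prime to `p` to a normal subgroup of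
`p`-power index is irreducible. -/
theorem restr_irr {G : Type u} [Group G] [Finite G] (K : Subgroup G) [K.Normal] (p : ℕ)
    (hp : p.Prime) (hidx : ∃ j, K.index = p ^ j) (ψ : IrrCharacter G)
    (hψ : ¬ p ∣ charDegree (ψ : G → ℂ)) :
    IsIrrCharacter K (fun k : K => (ψ : G → ℂ) k) := by
  classical
  haveI := Fintype.ofFinite G
  haveI := Fintype.ofFinite K
  haveI := Cfsg.Agent.Lib.Helper3.Irr.finite_irrCharacter (G := K)
  haveI : Fintype (IrrCharacter K) := Fintype.ofFinite _
  have hres : IsCharacter K (fun k : K => (ψ : G → ℂ) k) :=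
    Cfsg.Agent.Lib.CT.Ops.isCharacter_restrict K (isCharacter_of_isIrrCharacter ψ.2)
  obtain ⟨m, hm, hexp, hdeg, -⟩ := Cfsg.Agent.Lib.Helper80.Restrict.exists_mult hres
  have hdeg' : charDegree (fun k : K => (ψ : G → ℂ) k) = charDegree (ψ : G → ℂ) := rfl
  rw [hdeg'] at hdeg
  have hpos := charDegree_pos ψ
  -- some constituent
  obtain ⟨θ, hθ⟩ : ∃ θ : IrrCharacter K, m θ ≠ 0 := by
    by_contra hall
    push Not at hall
    have : ∑ φ : IrrCharacter K, m φ * charDegree (φ : K → ℂ) = 0 :=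
      Finset.sum_eq_zero (fun φ _ => by rw [hall φ, zero_mul])
    omega
  have hcon : classInner (fun k : K => (ψ : G → ℂ) k) (θ : K → ℂ) ≠ 0 := by
    rw [hm θ]
    exact_mod_cast hθ
  obtain ⟨hd1, hd2⟩ := Cfsg.Agent.Lib.Helper3.TDBasic.deg_of_constituent K θ ψ hcon
  obtain ⟨j, hj⟩ := hidx
  rw [hj] at hd2
  obtain ⟨i, -, hi⟩ := (Nat.dvd_prime_pow hp).1 hd2
  have hθpos := charDegree_pos θ
  have heq : charDegree (ψ : G → ℂ) = charDegree (θ : K → ℂ) := by
    have h1 : charDegree (ψ : G → ℂ) = charDegree (θ : K → ℂ) * p ^ i := by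
      rw [← hi]
      exact (Nat.mul_div_cancel' hd1).symm
    rcases Nat.eq_zero_or_pos i with h0 | h0
    · rw [h0, pow_zero, mul_one] at h1
      exact h1
    · exfalso
      apply hψ
      rw [h1]
      exact Dvd.dvd.mul_left (dvd_pow_self p h0.ne') _
  -- multiplicities
  have hsplit : m θ * charDegree (θ : K → ℂ) +
      ∑ φ ∈ Finset.univ.erase θ, m φ * charDegree (φ : K → ℂ) = charDegree (θ : K → ℂ) := by
    have h0 := Finset.add_sum_erase Finset.univ
      (fun φ : IrrCharacter K => m φ * charDegree (φ : K → ℂ)) (Finset.mem_univ θ)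
    beta_reduce at h0
    rw [h0, ← hdeg, heq]
  have hmθ : m θ = 1 := by
    have h1 : 1 ≤ m θ := Nat.one_le_iff_ne_zero.2 hθ
    have h2 : charDegree (θ : K → ℂ) ≤ m θ * charDegree (θ : K → ℂ) := Nat.le_mul_of_pos_left _ h1
    have h3 : m θ * charDegree (θ : K → ℂ) ≤ charDegree (θ : K → ℂ) := by omega
    have h4 : m θ * charDegree (θ : K → ℂ) = 1 * charDegree (θ : K → ℂ) := by omega
    exact Nat.eq_of_mul_eq_mul_right hθpos h4
  have hrest : ∑ φ ∈ Finset.univ.erase θ, m φ * charDegree (φ : K → ℂ) = 0 := by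
    rw [hmθ, one_mul] at hsplit
    omega
  have hzero : ∀ φ : IrrCharacter K, φ ≠ θ → m φ = 0 := by
    intro φ hφ
    have h1 := (Finset.sum_eq_zero_iff.1 hrest) φ (Finset.mem_erase.2 ⟨hφ, Finset.mem_univ φ⟩)
    have h2 := charDegree_pos φ
    rcases Nat.mul_eq_zero.1 h1 with h | h
    · exact h
    · omega
  have hfun : (fun k : K => (ψ : G → ℂ) k) = (θ : K → ℂ) := by
    funext k
    rw [hexp k, Finset.sum_eq_single θ]
    · rw [hmθ]
      simp
    · intro φ _ hφ
      rw [hzero φ hφ]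
      simp
    · intro h
      exact absurd (Finset.mem_univ θ) h
  rw [hfun]
  exact θ.2

theorem main : W1.{u} := by
  intro G _ _ K N p hF ψ hψ
  obtain ⟨hKn, hp, -, -, -, -, -, hidx, -, -, -⟩ := hF
  have := hKn
  exact restr_irr (K.subgroupOf N) p hp hidx ψ hψ

end Cfsg.Agent.Lib.Helper53.TC3W1
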