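import Mathlib
import Cfsg.Agent.Lib.Helper16.BRStmt
import Cfsg.Agent.Lib.CT.Kernel

/-!
# Brauer–Reynolds piece [PD]: `C_G(P) = P`
-/

set_option autoImplicit false
universe u

namespace Cfsg.Agent.Lib.Helper53.BRPD

open Cfsg

/-- An endomorphism `T` with `T * T = c • T`, `c ≠ 0`, and trace `0` vanishes. -/
theorem eq_zero_of_sq_of_trace {n : ℕ} (T : Module.End ℂ (Fin n → ℂ)) (c : ℂ) (hc : c ≠ 0)
    (hTT : T * T = c • T) (htr : LinearMap.trace ℂ (Fin n → ℂ) T = 0) : T = 0 := by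
  have hE : IsIdempotentElem (c⁻¹ • T) := by
    show (c⁻¹ • T) * (c⁻¹ • T) = c⁻¹ • T
    rw [smul_mul_smul_comm, hTT, smul_smul, mul_assoc, inv_mul_cancel₀ hc, mul_one]
  have htrE : LinearMap.trace ℂ (Fin n → ℂ) (c⁻¹ • T) = 0 := by
    rw [map_smul, htr, smul_zero]
  have h0 := (LinearMap.IsIdempotentElem.trace_eq_zero_iff hE).mp htrE
  have : c • (c⁻¹ • T) = T := by rw [smul_smul, mul_inv_cancel₀ hc, one_smul]
  rw [← this, h0, smul_zero]

theorem main : Cfsg.Agent.Lib.Helper16.BRStmt.CentEq.{u} := by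
  intro G _ _ p _ P hP hcore χ hχ1 hval
  classical
  have hpp : p.Prime := Fact.out
  obtain ⟨n, ρ, -, hρ⟩ := χ.2
  have hchar : ∀ g, (χ : G → ℂ) g = LinearMap.trace ℂ (Fin n → ℂ) (ρ g) := fun g => by
    rw [← hρ]; rfl
  letI : Fintype ↥(P : Subgroup G) := Fintype.ofFinite _
  have hp0 : (p : ℂ) ≠ 0 := Nat.cast_ne_zero.mpr hpp.ne_zero
  have hcardP : Fintype.card ↥(P : Subgroup G) = p := by
    rw [← Nat.card_eq_fintype_card]; exact hP
  have hχ1' : (χ : G → ℂ) 1 = (p : ℂ) - 1 := by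
    rw [hχ1, Nat.cast_sub hpp.one_le, Nat.cast_one]
  obtain ⟨T, hT⟩ : ∃ T : Module.End ℂ (Fin n → ℂ), T = ∑ x : ↥(P : Subgroup G), ρ (x : G) :=
    ⟨_, rfl⟩
  have hTx : ∀ x : ↥(P : Subgroup G), T * ρ (x : G) = T := by
    intro x
    rw [hT, Finset.sum_mul]
    exact Fintype.sum_equiv (Equiv.mulRight x) _ _ (fun z => by
      rw [← map_mul]; rfl)
  have hTT : T * T = (p : ℂ) • T := by
    have h1 : T * T = ∑ x : ↥(P : Subgroup G), T * ρ (x : G) := by
      rw [← Finset.mul_sum, ← hT]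
    rw [h1, Finset.sum_congr rfl (fun x _ => hTx x), Finset.sum_const, Finset.card_univ, hcardP,
      Nat.cast_smul_eq_nsmul]
  -- the key sum
  have hsum : ∀ y ∈ Subgroup.centralizer ((P : Subgroup G) : Set G), ¬ p ∣ orderOf y →
      LinearMap.trace ℂ (Fin n → ℂ) (T * ρ y) = (χ : G → ℂ) y + 1 - p := by
    intro y hy hyp
    rw [hT, Finset.sum_mul, map_sum]
    have h1 : ∀ x : ↥(P : Subgroup G),
        LinearMap.trace ℂ (Fin n → ℂ) (ρ (x : G) * ρ y) + 1
          = if x = 1 then (χ : G → ℂ) y + 1 else 0 := by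
      intro x
      rw [← map_mul, ← hchar]
      split_ifs with hx
      · rw [hx, Subgroup.coe_one, one_mul]
      · have hx' : (x : G) ≠ 1 := fun h => hx (Subtype.ext h)
        rw [hval x x.2 hx' y hy hyp]; ring
    have h2 : ∑ x : ↥(P : Subgroup G),
        (LinearMap.trace ℂ (Fin n → ℂ) (ρ (x : G) * ρ y) + 1) = (χ : G → ℂ) y + 1 := by
      rw [Finset.sum_congr rfl (fun x _ => h1 x), Finset.sum_ite_eq' Finset.univ 1]
      simp
    rw [Finset.sum_add_distrib, Finset.sum_const, Finset.card_univ, hcardP, nsmul_eq_mul,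
      mul_one] at h2
    rw [← h2]; ring
  have h1C : (1 : G) ∈ Subgroup.centralizer ((P : Subgroup G) : Set G) := Subgroup.one_mem _
  have h1reg : ¬ p ∣ orderOf (1 : G) := by
    rw [orderOf_one]; exact hpp.one_lt.ne' ∘ Nat.dvd_one.mp
  have htr : LinearMap.trace ℂ (Fin n → ℂ) T = 0 := by
    have := hsum 1 h1C h1reg
    rw [map_one, mul_one, hχ1'] at this
    rw [this]; ring
  have hT0 : T = 0 := eq_zero_of_sq_of_trace T p hp0 hTT htr
  -- p-regular elements of C lie in the kernel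
  obtain ⟨K, hKn, hK⟩ := Cfsg.Agent.Lib.CT.Kernel.exists_normal_ker (χ := (χ : G → ℂ)) ⟨n, ρ, hρ⟩
  have hregK : ∀ y ∈ Subgroup.centralizer ((P : Subgroup G) : Set G), ¬ p ∣ orderOf y →
      y ∈ K := by
    intro y hy hyp
    have := hsum y hy hyp
    rw [hT0, zero_mul, map_zero] at this
    rw [hK, hχ1']
    linear_combination -this
  -- K meets P trivially
  have hKP : ∀ x ∈ K, x ∈ (P : Subgroup G) → x = 1 := by
    intro x hxK hxP
    by_contra hx1
    have h1 := (hK x).mp hxK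
    have h2 := hval x hxP hx1 1 h1C h1reg
    rw [mul_one] at h2
    rw [h2, hχ1'] at h1
    have : (p : ℂ) = 0 := by linear_combination -h1
    exact hp0 this
  -- K is a p'-group
  have hcop : (Nat.card K).Coprime p := by
    rw [Nat.coprime_comm, hpp.coprime_iff_not_dvd]
    intro hdvd
    letI : Fintype ↥K := Fintype.ofFinite _
    rw [Nat.card_eq_fintype_card] at hdvd
    obtain ⟨k, hk⟩ := exists_prime_orderOf_dvd_card p hdvd
    have hkG : orderOf (k : G) = p := by rw [Subgroup.orderOf_coe]; exact hk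
    have hpg : IsPGroup p (Subgroup.zpowers (k : G)) := by
      rw [IsPGroup.iff_card]
      exact ⟨1, by rw [Nat.card_zpowers, hkG, pow_one]⟩
    obtain ⟨Q, hQ⟩ := hpg.exists_le_sylow
    obtain ⟨g, hg⟩ := MulAction.exists_smul_eq G Q P
    have hkQ : (k : G) ∈ (Q : Subgroup G) := hQ (Subgroup.mem_zpowers _)
    have hgk : g * (k : G) * g⁻¹ ∈ (P : Subgroup G) := by
      rw [← hg, Sylow.coe_subgroup_smul]
      have := Subgroup.smul_mem_pointwise_smul (k : G) (MulAut.conj g) (Q : Subgroup G) hkQ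
      rwa [MulAut.smul_def, MulAut.conj_apply] at this
    have hgkK : g * (k : G) * g⁻¹ ∈ K := hKn.conj_mem _ k.2 g
    have h1 := hKP _ hgkK hgk
    have hk1 : (k : G) = 1 := by
      have : (k : G) = g⁻¹ * (g * (k : G) * g⁻¹) * g := by group
      rw [this, h1]; group
    rw [hk1, orderOf_one] at hkG
    exact hpp.one_lt.ne hkG
  have hKbot : K = ⊥ := by
    have : K ≤ pPrimeCore p G := le_sSup ⟨hKn, hcop⟩
    rw [hcore] at this
    exact le_bot_iff.mp this
  have hreg1 : ∀ y ∈ Subgroup.centralizer ((P : Subgroup G) : Set G), ¬ p ∣ orderOf y →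
      y = 1 := by
    intro y hy hyp
    have := hregK y hy hyp
    rw [hKbot, Subgroup.mem_bot] at this
    exact this
  -- C is a p-group
  have hCp : IsPGroup p (Subgroup.centralizer ((P : Subgroup G) : Set G)) := by
    intro c
    have ho : orderOf (c : G) ≠ 0 := (orderOf_pos (c : G)).ne'
    obtain ⟨a, m, hm, hom⟩ := Nat.exists_eq_pow_mul_and_not_dvd ho p hpp.ne_one
    refine ⟨a, ?_⟩
    have hyC : (c : G) ^ p ^ a ∈ Subgroup.centralizer ((P : Subgroup G) : Set G) :=
      Subgroup.pow_mem _ c.2 _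
    have hyreg : ¬ p ∣ orderOf ((c : G) ^ p ^ a) := by
      intro hd
      have h1 : orderOf ((c : G) ^ p ^ a) ∣ m := by
        apply orderOf_dvd_of_pow_eq_one
        rw [← pow_mul, ← hom, pow_orderOf_eq_one]
      exact hm (hd.trans h1)
    have := hreg1 _ hyC hyreg
    exact Subtype.ext (by simpa using this)
  -- P ≤ C
  have hPC : (P : Subgroup G) ≤ Subgroup.centralizer ((P : Subgroup G) : Set G) := by
    haveI : IsCyclic ↥(P : Subgroup G) := isCyclic_of_prime_card hP
    letI := IsCyclic.commGroup (α := ↥(P : Subgroup G))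
    intro x hx
    rw [Subgroup.mem_centralizer_iff]
    intro y hy
    have := mul_comm (⟨y, hy⟩ : ↥(P : Subgroup G)) ⟨x, hx⟩
    exact congrArg Subtype.val this
  exact P.is_maximal' hCp hPC

end Cfsg.Agent.Lib.Helper53.BRPD
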