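import Mathlib
import Cfsg.Agent.Lib.Helper10.C2MStmt

set_option autoImplicit false

/-! S5990 / C2FIX sub-call (helper10), piece PLUSSUMM: the orthogonal sum of two plus-type
subspaces is of plus type (minus form; port of `Helper53.C2PLUSSUM`). -/

namespace Cfsg.Agent.Lib.Helper53.C2MPLUSSUMM

universe u

open Cfsg.Agent.Lib.Helper10.C2MStmt
open Cfsg.Agent.Lib.Helper45.OMiStmt (M Aniso NDegM StabM)
open Cfsg.Agent.Lib.Helper41.TMTwoStmt (PlusM)

theorem main : PlusSumM.{u} := by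
  intro F _ _ a₀ b₀ _ d A B horth hAB hPA hPB
  obtain ⟨UA, hUA, hTA, hfA⟩ := hPA
  obtain ⟨UB, hUB, hTB, hfB⟩ := hPB
  refine ⟨UA ⊔ UB, sup_le_sup hUA hUB, ?_, ?_⟩
  · intro w hw
    obtain ⟨u, hu, v, hv, rfl⟩ := Submodule.mem_sup.mp hw
    have h := horth u (hUA hu) v (hUB hv)
    have e : Cfsg.quadFormMinus (d - 1) F a₀ b₀ (u + v) =
        Cfsg.quadFormMinus (d - 1) F a₀ b₀ u + Cfsg.quadFormMinus (d - 1) F a₀ b₀ v +
        QuadraticMap.polar (Cfsg.quadFormMinus (d - 1) F a₀ b₀) u v := by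
      unfold QuadraticMap.polar; ring
    rw [e, hTA u hu, hTB v hv, h]; simp
  · have h1 := Submodule.finrank_sup_add_finrank_inf_eq UA UB
    have h2 := Submodule.finrank_sup_add_finrank_inf_eq A B
    have h3 : UA ⊓ UB = ⊥ := by
      rw [eq_bot_iff, ← hAB]; exact inf_le_inf hUA hUB
    rw [h3, finrank_bot] at h1
    rw [hAB, finrank_bot] at h2
    omega

end Cfsg.Agent.Lib.Helper53.C2MPLUSSUMM
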