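import Mathlib
import Cfsg.Agent.Lib.Helper59.C2Stmt

set_option autoImplicit false

/-! S5974 / C2FIX sub-call (helper59), piece PLUSSUM: the orthogonal sum of two plus-type
subspaces is of plus type. -/

namespace Cfsg.Agent.Lib.Helper53.C2PLUSSUM

universe u

open Cfsg.Agent.Lib.Helper59.C2Stmt
open Cfsg.Agent.Lib.Helper44.TPStmt (J NDeg Stab TSub Plus)

theorem main : PlusSum.{u} := by
  intro F _ _ d A B horth hAB hPA hPB
  obtain ⟨UA, hUA, hTA, hfA⟩ := hPA
  obtain ⟨UB, hUB, hTB, hfB⟩ := hPB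
  refine ⟨UA ⊔ UB, sup_le_sup hUA hUB, ?_, ?_⟩
  · intro w hw
    obtain ⟨u, hu, v, hv, rfl⟩ := Submodule.mem_sup.mp hw
    have h := horth u (hUA hu) v (hUB hv)
    have e : Cfsg.quadFormPlus d F (u + v) = Cfsg.quadFormPlus d F u + Cfsg.quadFormPlus d F v +
        QuadraticMap.polar (Cfsg.quadFormPlus d F) u v := by
      unfold QuadraticMap.polar; ring
    rw [e, hTA u hu, hTB v hv, h]; simp
  · have h1 := Submodule.finrank_sup_add_finrank_inf_eq UA UB
    have h2 := Submodule.finrank_sup_add_finrank_inf_eq A B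
    have h3 : UA ⊓ UB = ⊥ := by
      rw [eq_bot_iff, ← hAB]; exact inf_le_inf hUA hUB
    rw [h3, finrank_bot] at h1
    rw [hAB, finrank_bot] at h2
    omega

end Cfsg.Agent.Lib.Helper53.C2PLUSSUM
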