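import Mathlib
import Cfsg.Agent.Lib.Helper59.C2Stmt

set_option autoImplicit false

/-! S5974 / C2FIX sub-call (helper59), piece SINGPAIR: a nonzero nondegenerate plus-type subspace
contains a hyperbolic pair. -/

namespace Cfsg.Agent.Lib.Helper53.C2SINGPAIR

universe u

open Cfsg.Agent.Lib.Helper59.C2Stmt
open Cfsg.Agent.Lib.Helper44.TPStmt (J NDeg Stab TSub Plus)

/-- `Cfsg.quadFormPlus` as a quadratic form. -/
def pQ (m : ℕ) (F : Type u) [Field F] : QuadraticForm F (J m → F) :=
  (∑ i : Fin m, QuadraticMap.proj (R := F) (Sum.inl i) (Sum.inr i)).copy (Cfsg.quadFormPlus m F)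
    (by funext v; simp [Cfsg.quadFormPlus])

theorem coe_pQ (m : ℕ) (F : Type u) [Field F] : ⇑(pQ m F) = Cfsg.quadFormPlus m F := rfl

theorem q_add (d : ℕ) (F : Type u) [Field F] (u v : J d → F) :
    Cfsg.quadFormPlus d F (u + v) = Cfsg.quadFormPlus d F u + Cfsg.quadFormPlus d F v +
      QuadraticMap.polar (Cfsg.quadFormPlus d F) u v := by
  unfold QuadraticMap.polar; ring

theorem q_smul (d : ℕ) (F : Type u) [Field F] (c : F) (u : J d → F) :
    Cfsg.quadFormPlus d F (c • u) = c * c * Cfsg.quadFormPlus d F u := by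
  have h := QuadraticMap.map_smul (pQ d F) c u
  rw [coe_pQ] at h
  simpa using h

theorem polar_smul_r (d : ℕ) (F : Type u) [Field F] (c : F) (u v : J d → F) :
    QuadraticMap.polar (Cfsg.quadFormPlus d F) u (c • v) =
      c * QuadraticMap.polar (Cfsg.quadFormPlus d F) u v := by
  have h := QuadraticMap.polar_smul_right (pQ d F) c u v
  rw [coe_pQ] at h
  simpa using h

theorem polar_add_r (d : ℕ) (F : Type u) [Field F] (u v w : J d → F) :
    QuadraticMap.polar (Cfsg.quadFormPlus d F) u (v + w) =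
      QuadraticMap.polar (Cfsg.quadFormPlus d F) u v +
        QuadraticMap.polar (Cfsg.quadFormPlus d F) u w := by
  have h := QuadraticMap.polar_add_right (pQ d F) u v w
  rw [coe_pQ] at h
  exact h

theorem polar_self_r (d : ℕ) (F : Type u) [Field F] (u : J d → F) :
    QuadraticMap.polar (Cfsg.quadFormPlus d F) u u = 2 * Cfsg.quadFormPlus d F u := by
  have h := QuadraticMap.polar_self (pQ d F) u
  rw [coe_pQ] at h
  simpa using h

theorem main : SingPair.{u} := by
  intro F _ _ d A hND hPlus hA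
  obtain ⟨U, hUA, hTS, hfr⟩ := hPlus
  have hU : U ≠ ⊥ := by
    rintro rfl
    rw [finrank_bot, mul_zero] at hfr
    exact hA (Submodule.finrank_eq_zero.mp hfr.symm)
  obtain ⟨e, heU, he0⟩ := Submodule.exists_mem_ne_zero_of_ne_bot hU
  have heA : e ∈ A := hUA heU
  have hQe : Cfsg.quadFormPlus d F e = 0 := hTS e heU
  obtain ⟨f₀, hf₀A, hne⟩ := (hND e heA he0).2
  have hfe : QuadraticMap.polar (Cfsg.quadFormPlus d F) f₀ e =
      QuadraticMap.polar (Cfsg.quadFormPlus d F) e f₀ := QuadraticMap.polar_comm _ _ _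
  refine ⟨e, heA, f₀ + (-(Cfsg.quadFormPlus d F f₀ /
    QuadraticMap.polar (Cfsg.quadFormPlus d F) e f₀)) • e,
    A.add_mem hf₀A (A.smul_mem _ heA), hQe, ?_, ?_⟩
  · rw [q_add, q_smul, polar_smul_r, hQe, hfe]
    field_simp
    ring
  · rw [polar_add_r, polar_smul_r, polar_self_r, hQe]
    simpa using hne

end Cfsg.Agent.Lib.Helper53.C2SINGPAIR
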