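import Mathlib
import Cfsg.Agent.Lib.Helper30.CTIStmt
import Cfsg.Agent.S1225
import Cfsg.Agent.S2202

/-!
# S4064 piece FINAL (helper30's call): identification with `PSL₂(2^n)` via S2202 (sub-assembly
of ENDG; uses S1225 and S2202).
-/

set_option autoImplicit false
universe u

namespace Cfsg.Agent.Lib.Helper53.CTIFINAL

open Cfsg.Agent.Lib.Helper30.CTIStmt

theorem main : FINAL.{u} := by
  intro hENDG G _ _ M V hcen hns hsimple hcc hse huex hv hab hV hk
  obtain ⟨u, hu2, huH⟩ := huex
  obtain ⟨v, hvM, hv2⟩ := hv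
  obtain ⟨k, hk2, hVcard⟩ := hk
  have hv1 : v ≠ 1 := by
    intro h
    rw [h, orderOf_one] at hv2
    omega
  have hconj := (Cfsg.Agent.S1225.result (NM M) hse u hu2 huH v v hv2
    (Subgroup.le_normalizer hvM) hv2 (Subgroup.le_normalizer hvM)).2
  have hCv : ∀ x ∈ Subgroup.centralizer ({v} : Set G),
      ∀ y ∈ Subgroup.centralizer ({v} : Set G), x * y = y * x :=
    fun x hx y hy => hab x (hcc v hvM hv1 hx) y (hcc v hvM hv1 hy)
  have hcomm : ∀ t : G, orderOf t = 2 →
      IsMulCommutative ↥(Subgroup.centralizer ({t} : Set G)) := by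
    intro t ht
    obtain ⟨c, hc⟩ := isConj_iff.1 (hconj v t hv2 ht)
    have hmem : ∀ x ∈ Subgroup.centralizer ({t} : Set G),
        c⁻¹ * x * c ∈ Subgroup.centralizer ({v} : Set G) := by
      intro x hx
      rw [Subgroup.mem_centralizer_iff] at hx ⊢
      intro h hh
      rw [Set.mem_singleton_iff] at hh
      rw [hh]
      have hx' := hx t rfl
      have hv' : v = c⁻¹ * t * c := by rw [← hc]; group
      rw [hv']
      calc c⁻¹ * t * c * (c⁻¹ * x * c) = c⁻¹ * (t * x) * c := by group
        _ = c⁻¹ * (x * t) * c := by rw [hx']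
        _ = c⁻¹ * x * c * (c⁻¹ * t * c) := by group
    refine ⟨⟨fun a b => ?_⟩⟩
    apply Subtype.ext
    have h1 := hCv _ (hmem a.1 a.2) _ (hmem b.1 b.2)
    show (a : G) * (b : G) = (b : G) * (a : G)
    calc (a : G) * b = c * ((c⁻¹ * a * c) * (c⁻¹ * b * c)) * c⁻¹ := by group
      _ = c * ((c⁻¹ * b * c) * (c⁻¹ * a * c)) * c⁻¹ := by rw [h1]
      _ = b * a := by group
  have heven : Even (Nat.card G) := by
    rw [even_iff_two_dvd, ← hv2]
    exact orderOf_dvd_natCard v
  have hVp : IsPGroup 2 V := IsPGroup.of_card hVcard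
  obtain ⟨P, hVP⟩ := hVp.exists_le_sylow
  have hVexp : ∀ y ∈ V, y ^ 2 = 1 := fun y hy => ((hV y).1 hy).2
  have h4 : 4 ≤ Nat.card V := by
    rw [hVcard]
    calc 4 = 2 ^ 2 := by norm_num
      _ ≤ 2 ^ k := Nat.pow_le_pow_right (by norm_num) hk2
  rcases Cfsg.Agent.S2202.result heven hcomm with hA | hB | hC
  · exfalso
    have hPc := hA P
    have hVc : IsCyclic ↥V := by
      have hsub : IsCyclic ↥(V.subgroupOf (P : Subgroup G)) := inferInstance
      exact isCyclic_of_surjective (Subgroup.subgroupOfEquivOfLe hVP)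
        (Subgroup.subgroupOfEquivOfLe hVP).surjective
    obtain ⟨g, hg⟩ := hVc.exists_generator
    have hord : orderOf g = Nat.card V := orderOf_eq_card_of_forall_mem_zpowers hg
    have hg2 : g ^ 2 = 1 := Subtype.ext (hVexp g.1 g.2)
    have h5 := orderOf_dvd_of_pow_eq_one hg2
    have h6 := Nat.le_of_dvd (by norm_num) h5
    omega
  · exfalso
    have hPn := hB P
    rcases hPn.eq_bot_or_eq_top with hbot | htop
    · rw [hbot] at hVP
      have hVbot : V = ⊥ := le_bot_iff.1 hVP
      rw [hVbot, Subgroup.card_bot] at h4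
      omega
    · have hG : IsPGroup 2 G := by
        intro g
        obtain ⟨j, hj⟩ := P.isPGroup' ⟨g, htop ▸ Subgroup.mem_top g⟩
        exact ⟨j, by simpa using congrArg Subtype.val hj⟩
      have hnil : Group.IsNilpotent G := hG.isNilpotent
      exact hns inferInstance
  · have h4dvd : 4 ∣ Nat.card G := by
      have h1 : Nat.card V ∣ Nat.card G := Subgroup.card_subgroup_dvd_card V
      rw [hVcard] at h1
      exact dvd_trans (pow_dvd_pow 2 hk2) h1
    exact hENDG G hcen h4dvd hC

end Cfsg.Agent.Lib.Helper53.CTIFINAL
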