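import Mathlib
import Cfsg.Agent.Lib.Helper32.D8Stmt
import Cfsg.Agent.Lib.Helper26.GenChar
import Cfsg.Agent.Lib.CT.Ops
import Cfsg.Agent.Lib.CT.ClassMult
import Cfsg.Agent.Lib.Helper77.DihLat

/-!
# S3716 / PAIR (the pair relation for a generalized character of norm 4 vanishing at `1, u, v`)
-/

set_option autoImplicit false

namespace Cfsg.Agent.Lib.Helper53.D8PAIR

open Cfsg Cfsg.Agent.Lib.CT Cfsg.Agent.Lib.CT.Wedderburn Cfsg.Agent.Lib.Helper26.GenChar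
open Cfsg.Agent.Lib.Helper32
open scoped ComplexConjugate

universe u

/-- the polynomial identity behind the pair relation -/
theorem alg (m1 m2 m3 m4 a1 a2 a3 a4 b1 b2 b3 b4 : ℂ) (hm4 : m4 ≠ 0)
    (S0 : m1 + m2 + m3 + m4 = 0) (S1 : m1 * a1 + m2 * a2 + m3 * a3 + m4 * a4 = 0)
    (S2 : m1 * b1 + m2 * b2 + m3 * b3 + m4 * b4 = 0) :
    m1 * m2 * ((m1 * b1 ^ 2 + m2 * b2 ^ 2 + m3 * b3 ^ 2 + m4 * b4 ^ 2) * (a1 - a2) ^ 2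
      - 2 * (m1 * a1 * b1 + m2 * a2 * b2 + m3 * a3 * b3 + m4 * a4 * b4) * (a1 - a2) * (b1 - b2)
      + (m1 * a1 ^ 2 + m2 * a2 ^ 2 + m3 * a3 ^ 2 + m4 * a4 ^ 2) * (b1 - b2) ^ 2)
    = (m1 + m2) * ((m1 * a1 ^ 2 + m2 * a2 ^ 2 + m3 * a3 ^ 2 + m4 * a4 ^ 2) *
        (m1 * b1 ^ 2 + m2 * b2 ^ 2 + m3 * b3 ^ 2 + m4 * b4 ^ 2)
      - (m1 * a1 * b1 + m2 * a2 * b2 + m3 * a3 * b3 + m4 * a4 * b4) ^ 2) := by
  have ha4 : a4 = -(m1 * a1 + m2 * a2 + m3 * a3) / m4 := by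
    field_simp; linear_combination S1
  have hb4 : b4 = -(m1 * b1 + m2 * b2 + m3 * b3) / m4 := by
    field_simp; linear_combination S2
  have hm3 : m3 = -(m1 + m2 + m4) := by linear_combination S0
  subst ha4 hb4 hm3
  field_simp
  ring

theorem main : D8Stmt.PAIR.{u} := by
  intro G _ _ Ψ χ χ' ε ε' u v hΨ h1 hn hu hv hχ hχ' hne hε hε' hcχ hcχ'
  classical
  haveI := finite_irrCharacter G
  haveI := Fintype.ofFinite (IrrCharacter G)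
  obtain ⟨c, hc, hec⟩ := exists_int_mult hΨ
  have hsq := classInner_self_eq_sum_sq c hc hec
  rw [hn] at hsq
  have hsq' : ∑ ψ : IrrCharacter G, c ψ * c ψ = 4 := by exact_mod_cast hsq.symm
  obtain ⟨X1, hX1⟩ : ∃ X1 : IrrCharacter G, (X1 : G → ℂ) = χ := ⟨⟨χ, hχ⟩, rfl⟩
  obtain ⟨X2, hX2⟩ : ∃ X2 : IrrCharacter G, (X2 : G → ℂ) = χ' := ⟨⟨χ', hχ'⟩, rfl⟩
  have hX12 : X1 ≠ X2 := fun h => hne (by rw [← hX1, ← hX2, h])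
  have hc1 : (c X1 : ℂ) = ε := by rw [← hc X1, hX1]; exact hcχ
  have hc2 : (c X2 : ℂ) = ε' := by rw [← hc X2, hX2]; exact hcχ'
  have hc1sq : c X1 * c X1 = 1 := by
    have h2 : ((c X1 * c X1 : ℤ) : ℂ) = ((1 : ℤ) : ℂ) := by
      push_cast; rw [hc1]; rcases hε with h | h <;> rw [h] <;> norm_num
    exact_mod_cast h2
  have hc2sq : c X2 * c X2 = 1 := by
    have h2 : ((c X2 * c X2 : ℤ) : ℂ) = ((1 : ℤ) : ℂ) := by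
      push_cast; rw [hc2]; rcases hε' with h | h <;> rw [h] <;> norm_num
    exact_mod_cast h2
  have hmem2 : X2 ∈ Finset.univ.erase X1 := Finset.mem_erase.mpr ⟨hX12.symm, Finset.mem_univ X2⟩
  have hrest : ∑ ψ ∈ (Finset.univ.erase X1).erase X2, c ψ * c ψ = 2 := by
    have e1 := Finset.add_sum_erase Finset.univ (fun ψ => c ψ * c ψ) (Finset.mem_univ X1)
    have e2 := Finset.add_sum_erase (Finset.univ.erase X1) (fun ψ => c ψ * c ψ) hmem2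
    beta_reduce at e1 e2
    rw [hc1sq] at e1
    rw [hc2sq] at e2
    linarith
  obtain ⟨X3, h3T, X4, h4T, h34, hv3, hv4, hzero⟩ :=
    Cfsg.Agent.Lib.Helper77.DihLat.norm_two _ c hrest
  have hexp : ∀ g, Ψ g = (c X1 : ℂ) * (X1 : G → ℂ) g + (c X2 : ℂ) * (X2 : G → ℂ) g +
      (c X3 : ℂ) * (X3 : G → ℂ) g + (c X4 : ℂ) * (X4 : G → ℂ) g := by
    intro g
    have h2 := congrFun hec g
    rw [Finset.sum_apply] at h2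
    rw [h2, ← Finset.add_sum_erase _ _ (Finset.mem_univ X1), ← Finset.add_sum_erase _ _ hmem2,
      ← Finset.add_sum_erase _ _ h3T,
      ← Finset.add_sum_erase _ _ (Finset.mem_erase.mpr ⟨h34.symm, h4T⟩)]
    rw [Finset.sum_eq_zero, add_zero]
    · simp only [Pi.smul_apply, smul_eq_mul]
      ring
    · intro ψ hψ
      have hψ4 := Finset.ne_of_mem_erase hψ
      have hψ' := Finset.mem_of_mem_erase hψ
      have hψ3 := Finset.ne_of_mem_erase hψ'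
      have hψ'' := Finset.mem_of_mem_erase hψ'
      rw [hzero ψ hψ'' hψ3 hψ4]
      simp
  have hcard : (Nat.card G : ℂ) ≠ 0 := Nat.cast_ne_zero.mpr Nat.card_pos.ne'
  have hterm : ∀ cc a b d : ℂ, (Nat.card G : ℂ)⁻¹ * (cc * ((Nat.card G : ℂ) * a * b / d)) =
      cc * (a * b / d) := by
    intro cc a b d
    have e : (Nat.card G : ℂ)⁻¹ * (cc * ((Nat.card G : ℂ) * a * b / d)) =
        ((Nat.card G : ℂ)⁻¹ * (Nat.card G : ℂ)) * (cc * (a * b / d)) := by ring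
    rw [e, inv_mul_cancel₀ hcard, one_mul]
  have hbb : ∀ s t : G, D8Stmt.bb Ψ s t =
      (c X1 : ℂ) * ((X1 : G → ℂ) s * (X1 : G → ℂ) t / (X1 : G → ℂ) 1) +
      (c X2 : ℂ) * ((X2 : G → ℂ) s * (X2 : G → ℂ) t / (X2 : G → ℂ) 1) +
      (c X3 : ℂ) * ((X3 : G → ℂ) s * (X3 : G → ℂ) t / (X3 : G → ℂ) 1) +
      (c X4 : ℂ) * ((X4 : G → ℂ) s * (X4 : G → ℂ) t / (X4 : G → ℂ) 1) := by
    intro s t
    unfold D8Stmt.bb
    simp only [hexp]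
    rw [Finset.sum_add_distrib, Finset.sum_add_distrib, Finset.sum_add_distrib,
      ← Finset.mul_sum, ← Finset.mul_sum, ← Finset.mul_sum, ← Finset.mul_sum,
      ClassMult.irr_schur_average X1.2, ClassMult.irr_schur_average X2.2,
      ClassMult.irr_schur_average X3.2, ClassMult.irr_schur_average X4.2,
      mul_add, mul_add, mul_add, hterm, hterm, hterm, hterm]
  have hd1 : (X1 : G → ℂ) 1 ≠ 0 := irr_apply_one_ne_zero X1.2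
  have hd2 : (X2 : G → ℂ) 1 ≠ 0 := irr_apply_one_ne_zero X2.2
  have hd3 : (X3 : G → ℂ) 1 ≠ 0 := irr_apply_one_ne_zero X3.2
  have hd4 : (X4 : G → ℂ) 1 ≠ 0 := irr_apply_one_ne_zero X4.2
  have hc4 : (c X4 : ℂ) ≠ 0 := by
    rcases hv4 with h | h <;> rw [h] <;> norm_num
  have S0 : (c X1 : ℂ) * (X1 : G → ℂ) 1 + (c X2 : ℂ) * (X2 : G → ℂ) 1 +
      (c X3 : ℂ) * (X3 : G → ℂ) 1 + (c X4 : ℂ) * (X4 : G → ℂ) 1 = 0 := by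
    rw [← hexp 1, h1]
  have S1 : (c X1 : ℂ) * (X1 : G → ℂ) 1 * ((X1 : G → ℂ) u / (X1 : G → ℂ) 1) +
      (c X2 : ℂ) * (X2 : G → ℂ) 1 * ((X2 : G → ℂ) u / (X2 : G → ℂ) 1) +
      (c X3 : ℂ) * (X3 : G → ℂ) 1 * ((X3 : G → ℂ) u / (X3 : G → ℂ) 1) +
      (c X4 : ℂ) * (X4 : G → ℂ) 1 * ((X4 : G → ℂ) u / (X4 : G → ℂ) 1) = 0 := by
    have h2 := hexp u
    rw [hu] at h2
    rw [h2]
    field_simp
  have S2 : (c X1 : ℂ) * (X1 : G → ℂ) 1 * ((X1 : G → ℂ) v / (X1 : G → ℂ) 1) +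
      (c X2 : ℂ) * (X2 : G → ℂ) 1 * ((X2 : G → ℂ) v / (X2 : G → ℂ) 1) +
      (c X3 : ℂ) * (X3 : G → ℂ) 1 * ((X3 : G → ℂ) v / (X3 : G → ℂ) 1) +
      (c X4 : ℂ) * (X4 : G → ℂ) 1 * ((X4 : G → ℂ) v / (X4 : G → ℂ) 1) = 0 := by
    have h2 := hexp v
    rw [hv] at h2
    rw [h2]
    field_simp
  have key := alg ((c X1 : ℂ) * (X1 : G → ℂ) 1) ((c X2 : ℂ) * (X2 : G → ℂ) 1)
    ((c X3 : ℂ) * (X3 : G → ℂ) 1) ((c X4 : ℂ) * (X4 : G → ℂ) 1)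
    ((X1 : G → ℂ) u / (X1 : G → ℂ) 1) ((X2 : G → ℂ) u / (X2 : G → ℂ) 1)
    ((X3 : G → ℂ) u / (X3 : G → ℂ) 1) ((X4 : G → ℂ) u / (X4 : G → ℂ) 1)
    ((X1 : G → ℂ) v / (X1 : G → ℂ) 1) ((X2 : G → ℂ) v / (X2 : G → ℂ) 1)
    ((X3 : G → ℂ) v / (X3 : G → ℂ) 1) ((X4 : G → ℂ) v / (X4 : G → ℂ) 1)
    (mul_ne_zero hc4 hd4) S0 S1 S2
  have hBuu : D8Stmt.bb Ψ u u =
      (c X1 : ℂ) * (X1 : G → ℂ) 1 * ((X1 : G → ℂ) u / (X1 : G → ℂ) 1) ^ 2 +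
      (c X2 : ℂ) * (X2 : G → ℂ) 1 * ((X2 : G → ℂ) u / (X2 : G → ℂ) 1) ^ 2 +
      (c X3 : ℂ) * (X3 : G → ℂ) 1 * ((X3 : G → ℂ) u / (X3 : G → ℂ) 1) ^ 2 +
      (c X4 : ℂ) * (X4 : G → ℂ) 1 * ((X4 : G → ℂ) u / (X4 : G → ℂ) 1) ^ 2 := by
    rw [hbb]; field_simp
  have hBvv : D8Stmt.bb Ψ v v =
      (c X1 : ℂ) * (X1 : G → ℂ) 1 * ((X1 : G → ℂ) v / (X1 : G → ℂ) 1) ^ 2 +
      (c X2 : ℂ) * (X2 : G → ℂ) 1 * ((X2 : G → ℂ) v / (X2 : G → ℂ) 1) ^ 2 +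
      (c X3 : ℂ) * (X3 : G → ℂ) 1 * ((X3 : G → ℂ) v / (X3 : G → ℂ) 1) ^ 2 +
      (c X4 : ℂ) * (X4 : G → ℂ) 1 * ((X4 : G → ℂ) v / (X4 : G → ℂ) 1) ^ 2 := by
    rw [hbb]; field_simp
  have hBuv : D8Stmt.bb Ψ u v =
      (c X1 : ℂ) * (X1 : G → ℂ) 1 * ((X1 : G → ℂ) u / (X1 : G → ℂ) 1) *
        ((X1 : G → ℂ) v / (X1 : G → ℂ) 1) +
      (c X2 : ℂ) * (X2 : G → ℂ) 1 * ((X2 : G → ℂ) u / (X2 : G → ℂ) 1) *
        ((X2 : G → ℂ) v / (X2 : G → ℂ) 1) +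
      (c X3 : ℂ) * (X3 : G → ℂ) 1 * ((X3 : G → ℂ) u / (X3 : G → ℂ) 1) *
        ((X3 : G → ℂ) v / (X3 : G → ℂ) 1) +
      (c X4 : ℂ) * (X4 : G → ℂ) 1 * ((X4 : G → ℂ) u / (X4 : G → ℂ) 1) *
        ((X4 : G → ℂ) v / (X4 : G → ℂ) 1) := by
    rw [hbb]; field_simp
  subst hX1 hX2 hc1 hc2
  rw [hBuu, hBvv, hBuv]
  linear_combination key

end Cfsg.Agent.Lib.Helper53.D8PAIR
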