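import Cfsg.Agent.Lib.Helper53.FCStmt

/-!
Assembly for S1472 from the pieces of `FCStmt`.
-/

set_option autoImplicit false

namespace Cfsg.Agent.Lib.Helper53.FCAsm

open Cfsg.Agent.Lib.Helper53.FCStmt

universe u v

theorem fc_asm
    (h_BX : P_BX.{u, v}) (h_BQ1 : P_BQ1.{u, v}) (h_BQ2 : P_BQ2.{u, v}) (h_BPSI : P_BPSI.{u, v})
    (h_BCQ : P_BCQ.{u, v}) (h_BREL : P_BREL.{u, v}) (h_BPR : P_BPR.{u, v}) (h_TS : P_TS.{u, v})
    (h_NP : P_NP.{u, v}) (h_ST3 : P_ST3.{u, v}) (h_TYP : P_TYP.{u, v}) (h_SIG1 : P_SIG1.{u, v})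
    (h_LEMF : P_LEMF.{u, v}) (h_GEN1 : P_GEN1.{u, v}) (h_GEN2 : P_GEN2.{u, v})
    (h_LEMG : P_LEMG.{u, v}) (h_QSD : P_QSD.{u, v}) (h_PPR : P_PPR.{u, v}) (h_LCQ : P_LCQ.{u, v})
    (h_HEART : P_HEART.{u, v}) (h_KPRE : P_KPRE.{u, v}) (h_KINT : P_KINT.{u, v})
    (h_KLIN : P_KLIN.{u, v}) (h_KFIX : P_KFIX.{u, v}) (h_KEX : P_KEX.{u, v})
    (h_LEMK : P_LEMK.{u, v}) (h_CLAIM : P_CLAIM.{u, v}) (h_EST : P_EST.{u, v})
    (h_ACHAR : P_ACHAR.{v}) (h_AFPC : P_AFPC.{v}) (h_AFP1 : P_AFP1.{v}) (h_ADEC : P_ADEC.{v})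
    (h_APOLY : P_APOLY.{v}) (h_AE71 : P_AE71.{v}) (h_ANUM : P_ANUM)
    (h_AIMG : P_AIMG.{u, v}) (h_SETX : P_SETX.{u, v})
    {G : Type u} [Group G] [Finite G] (p q : ℕ) [Fact p.Prime] [Fact q.Prime]
    (hA : Nat.Coprime ((p ^ q - 1) / (p - 1)) (p - 1))
    (F : Type v) [Field F] [Fintype F] (hF : Fintype.card F = p ^ q) (P U Q : Subgroup G)
    (f ψ : G → F)
    (hf : Set.BijOn f (P : Set G) Set.univ) (hfadd : ∀ x ∈ P, ∀ z ∈ P, f (x * z) = f x + f z)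
    (hUP : U ≤ Subgroup.normalizer (P : Set G))
    (hψ : ∀ u ∈ U, ψ u ≠ 0 ∧ ∀ x ∈ P, f (u * x * u⁻¹) = ψ u * f x)
    (hψmul : ∀ u ∈ U, ∀ v ∈ U, ψ (u * v) = ψ u * ψ v) (hψinj : Set.InjOn ψ (U : Set G))
    (hUcard : Nat.card U * (p - 1) = p ^ q - 1)
    (hQ : IsMulCommutative Q) (hQp : (Nat.card Q).Coprime p)
    (hP0Q : ∀ x ∈ P, f x ^ p = f x → x ∈ Subgroup.normalizer (Q : Set G))
    (y : G) (hy : y ∈ Q)
    (hP0U : ∀ x ∈ P, f x ^ p = f x → y * x * y⁻¹ ∈ Subgroup.normalizer (U : Set G)) :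
    p ≤ q := by
  by_contra hpq
  have hqp : q < p := not_le.mp hpq
  obtain ⟨hp5, hp2, hq2⟩ := h_ANUM p q hA hqp
  obtain ⟨hchar, hfrob⟩ := h_ACHAR p q hA F hF
  have hfpc := h_AFPC p q hA F hF
  have hfp1 := h_AFP1 p q hA F hF
  have hdec := h_ADEC p q hA F hF hfpc
  have hpoly := h_APOLY p q hA F hF
  have hexE := h_AE71 p q hA F hF hp2 hq2
  have himg := h_AIMG p q F hF U ψ (fun u hu => (hψ u hu).1) hψmul hψinj hUcard
  obtain ⟨x, s, t, hxadd, hxinj, hs, hUact, hsQ, ht, htU⟩ :=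
    h_SETX p q F hF P U Q f ψ hf hfadd hUP hψ hP0Q y hy hP0U
  have h0 : FC0 p q x U Q ψ s t :=
    { hp := Fact.out
      hq := Fact.out
      hqp := hqp
      hp5 := hp5
      charp := hchar
      frobZ := hfrob
      xadd := hxadd
      xinj := hxinj
      hs := hs
      Uact := hUact
      ψne := fun u hu => (hψ u hu).1
      ψmul := hψmul
      ψinj := hψinj
      ψimg := himg
      Qcomm := fun a ha b hb => by
        have := mul_comm' (⟨a, ha⟩ : Q) ⟨b, hb⟩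
        exact congrArg Subtype.val this
      Qcop := hQp
      sQ := hsQ
      ht := ht
      tU := htU
      fp1 := hfp1
      dec := hdec
      poly := fun α β hβ hl => hpq (hpoly α β hβ hl)
      exE := hexE }
  have hbx := h_BX p q x U Q ψ s t h0
  have h1 : FC1 p q x U Q ψ s t := { toFC0 := h0, toBXc := hbx }
  have hbq1 := h_BQ1 p q x U Q ψ s t h1
  have h2 : FC2 p q x U Q ψ s t := { toFC1 := h1, toBQ1c := hbq1 }
  have hbq2 := h_BQ2 p q x U Q ψ s t h2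
  have h3 : FC3 p q x U Q ψ s t := { toFC2 := h2, toBQ2c := hbq2 }
  have hbpsi := h_BPSI p q x U Q ψ s t h1
  have hbcq := h_BCQ p q x U Q ψ s t h3
  have h : FC p q x U Q ψ s t := { toFC3 := h3, toBPSIc := hbpsi, toBCQc := hbcq }
  have hBREL := h_BREL p q x U Q ψ s t h
  have hBPR := h_BPR p q x U Q ψ s t h hBREL
  have hTS := h_TS p q x U Q ψ s t h
  have hNP := h_NP p q x U Q ψ s t h hTS
  have hST3 := h_ST3 p q x U Q ψ s t h hTS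
  have hTYP := h_TYP p q x U Q ψ s t h hTS hNP hST3
  have hSIG1 := h_SIG1 p q x U Q ψ s t h
  have hLEMF := h_LEMF p q x U Q ψ s t h hSIG1
  have hGEN1 := h_GEN1 p q x U Q ψ s t h hLEMF
  have hGEN2 := h_GEN2 p q x U Q ψ s t h hLEMF
  have hLEMG := h_LEMG p q x U Q ψ s t h hGEN1
  have hQSD := h_QSD p q x U Q ψ s t h
  have hPPR := h_PPR p q x U Q ψ s t h
  have hLCQ := h_LCQ p q x U Q ψ s t h hQSD hPPR
  have hHEART := h_HEART p q x U Q ψ s t h hBREL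
  have hKPRE := h_KPRE p q x U Q ψ s t h hLEMG hLCQ hQSD
  have hKINT := h_KINT p q x U Q ψ s t h hSIG1 hTS hNP hTYP
  have hKLIN := h_KLIN p q x U Q ψ s t h hBREL hBPR hLEMG hLCQ hQSD
  have hKFIX := h_KFIX p q x U Q ψ s t h hGEN2 hQSD
  have hKEX := h_KEX p q x U Q ψ s t h hKLIN hKFIX
  have hLEMK := h_LEMK p q x U Q ψ s t h hKPRE hKEX hKINT
  have hCLAIM := h_CLAIM p q x U Q ψ s t h hHEART hLEMK
  have hEST := h_EST p q x U Q ψ s t h hCLAIM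
  -- final contradiction
  obtain ⟨a, ha1, haN, ha2⟩ := hexE
  obtain ⟨u, hu, rfl⟩ := (himg a).mp haN
  refine h0.poly 1 (1 - ψ u) (sub_ne_zero.mpr (Ne.symm ha1)) ?_
  intro l
  have := hEST u hu ha2 (l + 1)
  have e : ((1 : F) + (l : F) * (1 - ψ u)) = (((l + 1 : ℤ) : F) - (((l + 1 : ℤ) : F) - 1) * ψ u) := by
    push_cast; ring
  rw [e]; exact this

end Cfsg.Agent.Lib.Helper53.FCAsm
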