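import Mathlib

/-!
Statement file for S1472 (final contradiction, field configuration).  Pieces are the
`P_*` propositions below; see the team board for sketches.  Abstract setting: `x : F → G`
is an injective homomorphism from the additive group of a field `F` of order `p ^ q`,
`U` acts on `x F` through `ψ`, `Q` is an abelian group of order prime to `p` normalized by
`s = x 1`, `t = y s y⁻¹` (with `y ∈ Q`) normalizes `U`, and `q < p`.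
-/

set_option autoImplicit false
set_option linter.unusedVariables false

namespace Cfsg.Agent.Lib.Helper53.FCStmt

universe u v

/-- the norm exponent `(p ^ q - 1) / (p - 1)` -/
def nU (p q : ℕ) : ℕ := (p ^ q - 1) / (p - 1)

section ctx
variable {G : Type u} [Group G] {F : Type v} [Field F]

/-- the set of all `w * (s w s⁻¹)⁻¹`, `w ∈ Q` -/
def Qp (Q : Subgroup G) (s : G) : Set G := {z | ∃ w ∈ Q, z = w * (s * w * s⁻¹)⁻¹}

/-- the axioms of the configuration -/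
structure FC0 (p q : ℕ) (x : F → G) (U Q : Subgroup G) (ψ : G → F) (s t : G) : Prop where
  hp : p.Prime
  hq : q.Prime
  hqp : q < p
  hp5 : 5 ≤ p
  charp : CharP F p
  frobZ : ∀ k : ℤ, (k : F) ^ p = k
  xadd : ∀ a b, x (a + b) = x a * x b
  xinj : Function.Injective x
  hs : s = x 1
  Uact : ∀ u ∈ U, ∀ a, u * x a * u⁻¹ = x (ψ u * a)
  ψne : ∀ u ∈ U, ψ u ≠ 0
  ψmul : ∀ u ∈ U, ∀ v ∈ U, ψ (u * v) = ψ u * ψ v
  ψinj : Set.InjOn ψ (U : Set G)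
  ψimg : ∀ z : F, z ^ nU p q = 1 ↔ ∃ u ∈ U, ψ u = z
  Qcomm : ∀ a ∈ Q, ∀ b ∈ Q, a * b = b * a
  Qcop : (Nat.card Q).Coprime p
  sQ : s ∈ Subgroup.normalizer (Q : Set G)
  ht : ∃ y ∈ Q, t = y * s * y⁻¹
  tU : t ∈ Subgroup.normalizer (U : Set G)
  fp1 : ∀ z : F, z ^ p = z → z ^ nU p q = 1 → z = 1
  dec : ∀ w : F, w ≠ 0 → ∃ k : ℤ, ∃ e : F, (k : F) ≠ 0 ∧ e ^ nU p q = 1 ∧ w = k * e
  poly : ∀ α β : F, β ≠ 0 → (∀ l : ℤ, (α + l * β) ^ nU p q = 1) → False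
  exE : ∃ a : F, a ≠ 1 ∧ a ^ nU p q = 1 ∧ (2 - a) ^ nU p q = 1

/-- basics about `x` -/
structure BXc (p q : ℕ) (x : F → G) (U Q : Subgroup G) (ψ : G → F) (s t : G) : Prop where
  x0 : x 0 = 1
  xneg : ∀ a, x (-a) = (x a)⁻¹
  xsub : ∀ a b, x (a - b) = x a * (x b)⁻¹
  xcomm : ∀ a b, x a * x b = x b * x a
  xzpow : ∀ a, ∀ k : ℤ, x a ^ k = x (k * a)
  szpow : ∀ k : ℤ, s ^ k = x (k : F)
  spow : ∀ i j : ℤ, (i : F) = j → s ^ i = s ^ j
  x1 : ∀ a, x a = 1 → a = 0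

/-- basics about `U` and `ψ` -/
structure BPSIc (p q : ℕ) (x : F → G) (U Q : Subgroup G) (ψ : G → F) (s t : G) : Prop where
  ψ1 : ψ 1 = 1
  ψinv : ∀ u ∈ U, ψ u⁻¹ = (ψ u)⁻¹
  ψN : ∀ u ∈ U, ψ u ^ nU p q = 1
  Ucomm : ∀ u ∈ U, ∀ v ∈ U, u * v = v * u
  Uact' : ∀ u ∈ U, ∀ a, u⁻¹ * x a * u = x ((ψ u)⁻¹ * a)
  UP : ∀ u ∈ U, ∀ a, u = x a → u = 1
  Up : ∀ u ∈ U, u ^ p = 1 → u = 1
  Une : ∃ u ∈ U, u ≠ 1

/-- basics about `Q`, `t` (first batch) -/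
structure BQ1c (p q : ℕ) (x : F → G) (U Q : Subgroup G) (ψ : G → F) (s t : G) : Prop where
  tconj : ∃ y ∈ Q, ∀ i : ℤ, t ^ i = y * s ^ i * y⁻¹
  tpow : ∀ i j : ℤ, (i : F) = j → t ^ i = t ^ j
  QP : ∀ z ∈ Q, ∀ a, z = x a → a = 0
  sQz : ∀ z ∈ Q, ∀ i : ℤ, s ^ i * z * s ^ (-i) ∈ Q
  tUz : ∀ u ∈ U, ∀ i : ℤ, t ^ i * u * t ^ (-i) ∈ U
  QpQ : ∀ z ∈ Qp Q s, z ∈ Q

/-- basics about `Q`, `t` (second batch) -/
structure BQ2c (p q : ℕ) (x : F → G) (U Q : Subgroup G) (ψ : G → F) (s t : G) : Prop where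
  tQz : ∀ z ∈ Q, ∀ i : ℤ, t ^ i * z * t ^ (-i) = s ^ i * z * s ^ (-i)
  dQ : ∀ j : ℤ, s ^ (-j) * t ^ j ∈ Q
  cQ' : ∀ i : ℤ, t ^ i * s ^ (-i) ∈ Q

/-- `c_i = t^i s^{-i}` lies in `Qp` -/
structure BCQc (p q : ℕ) (x : F → G) (U Q : Subgroup G) (ψ : G → F) (s t : G) : Prop where
  cQ : ∀ i : ℤ, t ^ i * s ^ (-i) ∈ Qp Q s

/-- axioms + x-basics -/
structure FC1 (p q : ℕ) (x : F → G) (U Q : Subgroup G) (ψ : G → F) (s t : G) : Prop
    extends FC0 p q x U Q ψ s t, BXc p q x U Q ψ s t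

/-- axioms + x-basics + first Q-basics -/
structure FC2 (p q : ℕ) (x : F → G) (U Q : Subgroup G) (ψ : G → F) (s t : G) : Prop
    extends FC1 p q x U Q ψ s t, BQ1c p q x U Q ψ s t

/-- axioms + x-basics + Q-basics (two batches) -/
structure FC3 (p q : ℕ) (x : F → G) (U Q : Subgroup G) (ψ : G → F) (s t : G) : Prop
    extends FC2 p q x U Q ψ s t, BQ2c p q x U Q ψ s t

/-- the full context: axioms and all basics -/
structure FC (p q : ℕ) (x : F → G) (U Q : Subgroup G) (ψ : G → F) (s t : G) : Prop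
    extends FC3 p q x U Q ψ s t, BPSIc p q x U Q ψ s t, BCQc p q x U Q ψ s t

/-- lemma statement `BRELp` -/
def BRELp (p q : ℕ) (x : F → G) (U Q : Subgroup G) (ψ : G → F) (s t : G) : Prop :=
  ∀ i j : ℤ, t ^ i * s ^ (-(i + j)) * t ^ j = s ^ (-j) * t ^ (i + j) * s ^ (-i)

/-- lemma statement `BPRp` -/
def BPRp (p q : ℕ) (x : F → G) (U Q : Subgroup G) (ψ : G → F) (s t : G) : Prop :=
  ∀ h ∈ U, ∀ i j : ℤ, t ^ i * (h * s ^ (-(i + j)) * h⁻¹) * t ^ j =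
    x (-(j : F) * ψ (t ^ i * h * t ^ (-i))) * t ^ (i + j) * x (-(i : F) * ψ (t ^ (-j) * h * t ^ j))

/-- lemma statement `TSp` -/
def TSp (p q : ℕ) (x : F → G) (U Q : Subgroup G) (ψ : G → F) (s t : G) : Prop :=
  t * s ≠ s * t

/-- lemma statement `NPp` -/
def NPp (p q : ℕ) (x : F → G) (U Q : Subgroup G) (ψ : G → F) (s t : G) : Prop :=
  ∀ n : ℤ, ∀ a : F, t ^ n = x a → (n : F) = 0

/-- lemma statement `ST3p` -/
def ST3p (p q : ℕ) (x : F → G) (U Q : Subgroup G) (ψ : G → F) (s t : G) : Prop :=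
  ∀ n : ℤ, (n : F) ≠ 0 → ∀ c c' : F, x c = t ^ n * x c' * t ^ (-n) → c = 0

/-- lemma statement `TYPp` -/
def TYPp (p q : ℕ) (x : F → G) (U Q : Subgroup G) (ψ : G → F) (s t : G) : Prop :=
  ∀ n1 n2 : ℤ, ∀ A B : F, (n2 : F) ≠ 0 → t ^ n1 = x A * t ^ n2 * x B →
    (n1 : F) = n2 ∧ A = 0 ∧ B = 0

/-- lemma statement `SIG1p` -/
def SIG1p (p q : ℕ) (x : F → G) (U Q : Subgroup G) (ψ : G → F) (s t : G) : Prop :=
  ∀ z ∈ Qp Q s, ∀ j : ℤ, (j : F) ≠ 0 → s ^ j * z * s ^ (-j) = z → z = 1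

/-- lemma statement `LEMFp` -/
def LEMFp (p q : ℕ) (x : F → G) (U Q : Subgroup G) (ψ : G → F) (s t : G) : Prop :=
  ∀ R : Subgroup G, R ≤ Q → (∀ r ∈ R, s * r * s⁻¹ ∈ R) → ∀ c ∈ Qp Q s, ∀ j : ℤ,
    (j : F) ≠ 0 → c * (s ^ j * c * s ^ (-j))⁻¹ ∈ R → c ∈ R

/-- lemma statement `GEN1p` -/
def GEN1p (p q : ℕ) (x : F → G) (U Q : Subgroup G) (ψ : G → F) (s t : G) : Prop :=
  ∀ l : ℤ, (l : F) ≠ 0 →
    Subgroup.closure {s, t ^ l * s * t ^ (-l)} = Subgroup.closure {s, t}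

/-- lemma statement `GEN2p` -/
def GEN2p (p q : ℕ) (x : F → G) (U Q : Subgroup G) (ψ : G → F) (s t : G) : Prop :=
  ∀ k : ℤ, (k : F) ≠ 0 →
    Subgroup.closure {t, t ^ (2 : ℤ) * s ^ k * t⁻¹ * s ^ (-k)} = Subgroup.closure {s, t}

/-- lemma statement `LEMGp` -/
def LEMGp (p q : ℕ) (x : F → G) (U Q : Subgroup G) (ψ : G → F) (s t : G) : Prop :=
  ∀ d ∈ Subgroup.closure {s, t}, ∀ A B : F, ∀ l : ℤ, (l : F) ≠ 0 →
    d = x A * t ^ l * x B → x A ∈ Subgroup.normalizer (Subgroup.closure {s, t} : Set G)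

/-- lemma statement `QSDp` -/
def QSDp (p q : ℕ) (x : F → G) (U Q : Subgroup G) (ψ : G → F) (s t : G) : Prop :=
  ∀ d ∈ Subgroup.closure {s, t}, ∃ z ∈ Q, ∃ k : ℤ, d = z * s ^ k

/-- lemma statement `PPRp` -/
def PPRp (p q : ℕ) (x : F → G) (U Q : Subgroup G) (ψ : G → F) (s t : G) : Prop :=
  ∀ z ∈ Q, ∀ z0 ∈ Q, ∀ c : G, ∀ k : ℤ, c * z0 * c⁻¹ = z * s ^ k → (k : F) = 0

/-- lemma statement `LCQp` -/
def LCQp (p q : ℕ) (x : F → G) (U Q : Subgroup G) (ψ : G → F) (s t : G) : Prop :=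
  ∀ A : F, x A ∈ Subgroup.normalizer (Subgroup.closure {s, t} : Set G) →
    ∀ l : ℤ, x A * t ^ l * x (-A) * s ^ (-l) ∈ Q

/-- lemma statement `HEARTp` -/
def HEARTp (p q : ℕ) (x : F → G) (U Q : Subgroup G) (ψ : G → F) (s t : G) : Prop :=
  ∀ u ∈ U, ∀ v ∈ U, ψ v = 2 - ψ u → ∀ i k : ℤ, ∀ h1 ∈ U,
    ((i : F) - 1) * ψ (t ^ (i - 2) * u * t ^ (-(i - 2))) - i = k * ψ h1 →
    ∃ w w' : F, t ^ (2 : ℤ) * s ^ k * t⁻¹ = x w * t * x w' 

/-- lemma statement `KPREp` -/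
def KPREp (p q : ℕ) (x : F → G) (U Q : Subgroup G) (ψ : G → F) (s t : G) : Prop :=
  ∀ k : ℤ, (k : F) ≠ 0 → ∀ w w' : F, t ^ (2 : ℤ) * s ^ k * t⁻¹ = x w * t * x w' →
    x w ∈ Subgroup.normalizer (Subgroup.closure {s, t} : Set G) ∧
    t ^ (2 : ℤ) * s ^ k * t⁻¹ * s ^ (-k) = x w * t * x (-w)

/-- lemma statement `KINTp` -/
def KINTp (p q : ℕ) (x : F → G) (U Q : Subgroup G) (ψ : G → F) (s t : G) : Prop :=
  ∀ k j1 : ℤ, (k : F) ≠ 0 →
    t ^ (2 : ℤ) * s ^ k * t⁻¹ * s ^ (-k) = s ^ j1 * t * s ^ (-j1) → (k : F) = -1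

/-- lemma statement `KLINp` -/
def KLINp (p q : ℕ) (x : F → G) (U Q : Subgroup G) (ψ : G → F) (s t : G) : Prop :=
  ∀ h0 ∈ U, x (ψ h0) ∈ Subgroup.normalizer (Subgroup.closure {s, t} : Set G) →
    ∀ l1 l2 : ℤ, (l1 : F) ≠ 0 → (l2 : F) ≠ 0 → (l1 : F) ≠ l2 →
    (l1 : F) * ψ (t ^ (-l2) * h0 * t ^ l2) - l2 * ψ (t ^ (-l1) * h0 * t ^ l1) = ((l1 : F) - l2) * ψ h0

/-- lemma statement `KFIXp` -/
def KFIXp (p q : ℕ) (x : F → G) (U Q : Subgroup G) (ψ : G → F) (s t : G) : Prop :=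
  ∀ h0 ∈ U, t * h0 = h0 * t → ∀ k k3 : ℤ, (k : F) ≠ 0 →
    t ^ (2 : ℤ) * s ^ k * t⁻¹ * s ^ (-k) = x (k3 * ψ h0) * t * x (-(k3 * ψ h0)) → ψ h0 = 1

/-- lemma statement `KEXp` -/
def KEXp (p q : ℕ) (x : F → G) (U Q : Subgroup G) (ψ : G → F) (s t : G) : Prop :=
  ∀ k : ℤ, (k : F) ≠ 0 → ∀ w : F,
    x w ∈ Subgroup.normalizer (Subgroup.closure {s, t} : Set G) →
    t ^ (2 : ℤ) * s ^ k * t⁻¹ * s ^ (-k) = x w * t * x (-w) → ∃ j1 : ℤ, w = j1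

/-- lemma statement `LEMKp` -/
def LEMKp (p q : ℕ) (x : F → G) (U Q : Subgroup G) (ψ : G → F) (s t : G) : Prop :=
  ∀ k : ℤ, (k : F) ≠ 0 → ∀ w w' : F, t ^ (2 : ℤ) * s ^ k * t⁻¹ = x w * t * x w' →
    (k : F) = -1

/-- lemma statement `CLAIMp` -/
def CLAIMp (p q : ℕ) (x : F → G) (U Q : Subgroup G) (ψ : G → F) (s t : G) : Prop :=
  ∀ u ∈ U, (2 - ψ u) ^ nU p q = 1 → ∀ i : ℤ,
    ((i : F) - ((i : F) - 1) * ψ (t ^ (i - 2) * u * t ^ (-(i - 2)))) ^ nU p q = 1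

/-- lemma statement `ESTp` -/
def ESTp (p q : ℕ) (x : F → G) (U Q : Subgroup G) (ψ : G → F) (s t : G) : Prop :=
  ∀ u ∈ U, (2 - ψ u) ^ nU p q = 1 → ∀ i : ℤ, ((i : F) - ((i : F) - 1) * ψ u) ^ nU p q = 1

end ctx

/-- piece `BX` -/
def P_BX : Prop :=
  ∀ {G : Type u} [Group G] [Finite G] {F : Type v} [Field F] [Fintype F] (p q : ℕ) (x : F → G)
    (U Q : Subgroup G) (ψ : G → F) (s t : G),
    FC0 p q x U Q ψ s t → BXc p q x U Q ψ s t

/-- piece `BQ1` -/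
def P_BQ1 : Prop :=
  ∀ {G : Type u} [Group G] [Finite G] {F : Type v} [Field F] [Fintype F] (p q : ℕ) (x : F → G)
    (U Q : Subgroup G) (ψ : G → F) (s t : G),
    FC1 p q x U Q ψ s t → BQ1c p q x U Q ψ s t

/-- piece `BQ2` -/
def P_BQ2 : Prop :=
  ∀ {G : Type u} [Group G] [Finite G] {F : Type v} [Field F] [Fintype F] (p q : ℕ) (x : F → G)
    (U Q : Subgroup G) (ψ : G → F) (s t : G),
    FC2 p q x U Q ψ s t → BQ2c p q x U Q ψ s t

/-- piece `BPSI` -/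
def P_BPSI : Prop :=
  ∀ {G : Type u} [Group G] [Finite G] {F : Type v} [Field F] [Fintype F] (p q : ℕ) (x : F → G)
    (U Q : Subgroup G) (ψ : G → F) (s t : G),
    FC1 p q x U Q ψ s t → BPSIc p q x U Q ψ s t

/-- piece `BCQ` -/
def P_BCQ : Prop :=
  ∀ {G : Type u} [Group G] [Finite G] {F : Type v} [Field F] [Fintype F] (p q : ℕ) (x : F → G)
    (U Q : Subgroup G) (ψ : G → F) (s t : G),
    FC3 p q x U Q ψ s t → BCQc p q x U Q ψ s t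

/-- piece `BREL` -/
def P_BREL : Prop :=
  ∀ {G : Type u} [Group G] [Finite G] {F : Type v} [Field F] [Fintype F] (p q : ℕ) (x : F → G)
    (U Q : Subgroup G) (ψ : G → F) (s t : G),
    FC p q x U Q ψ s t → BRELp p q x U Q ψ s t

/-- piece `BPR` -/
def P_BPR : Prop :=
  ∀ {G : Type u} [Group G] [Finite G] {F : Type v} [Field F] [Fintype F] (p q : ℕ) (x : F → G)
    (U Q : Subgroup G) (ψ : G → F) (s t : G),
    FC p q x U Q ψ s t → BRELp p q x U Q ψ s t → BPRp p q x U Q ψ s t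

/-- piece `TS` -/
def P_TS : Prop :=
  ∀ {G : Type u} [Group G] [Finite G] {F : Type v} [Field F] [Fintype F] (p q : ℕ) (x : F → G)
    (U Q : Subgroup G) (ψ : G → F) (s t : G),
    FC p q x U Q ψ s t → TSp p q x U Q ψ s t

/-- piece `NP` -/
def P_NP : Prop :=
  ∀ {G : Type u} [Group G] [Finite G] {F : Type v} [Field F] [Fintype F] (p q : ℕ) (x : F → G)
    (U Q : Subgroup G) (ψ : G → F) (s t : G),
    FC p q x U Q ψ s t → TSp p q x U Q ψ s t → NPp p q x U Q ψ s t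

/-- piece `ST3` -/
def P_ST3 : Prop :=
  ∀ {G : Type u} [Group G] [Finite G] {F : Type v} [Field F] [Fintype F] (p q : ℕ) (x : F → G)
    (U Q : Subgroup G) (ψ : G → F) (s t : G),
    FC p q x U Q ψ s t → TSp p q x U Q ψ s t → ST3p p q x U Q ψ s t

/-- piece `TYP` -/
def P_TYP : Prop :=
  ∀ {G : Type u} [Group G] [Finite G] {F : Type v} [Field F] [Fintype F] (p q : ℕ) (x : F → G)
    (U Q : Subgroup G) (ψ : G → F) (s t : G),
    FC p q x U Q ψ s t → TSp p q x U Q ψ s t → NPp p q x U Q ψ s t → ST3p p q x U Q ψ s t → TYPp p q x U Q ψ s t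

/-- piece `SIG1` -/
def P_SIG1 : Prop :=
  ∀ {G : Type u} [Group G] [Finite G] {F : Type v} [Field F] [Fintype F] (p q : ℕ) (x : F → G)
    (U Q : Subgroup G) (ψ : G → F) (s t : G),
    FC p q x U Q ψ s t → SIG1p p q x U Q ψ s t

/-- piece `LEMF` -/
def P_LEMF : Prop :=
  ∀ {G : Type u} [Group G] [Finite G] {F : Type v} [Field F] [Fintype F] (p q : ℕ) (x : F → G)
    (U Q : Subgroup G) (ψ : G → F) (s t : G),
    FC p q x U Q ψ s t → SIG1p p q x U Q ψ s t → LEMFp p q x U Q ψ s t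

/-- piece `GEN1` -/
def P_GEN1 : Prop :=
  ∀ {G : Type u} [Group G] [Finite G] {F : Type v} [Field F] [Fintype F] (p q : ℕ) (x : F → G)
    (U Q : Subgroup G) (ψ : G → F) (s t : G),
    FC p q x U Q ψ s t → LEMFp p q x U Q ψ s t → GEN1p p q x U Q ψ s t

/-- piece `GEN2` -/
def P_GEN2 : Prop :=
  ∀ {G : Type u} [Group G] [Finite G] {F : Type v} [Field F] [Fintype F] (p q : ℕ) (x : F → G)
    (U Q : Subgroup G) (ψ : G → F) (s t : G),
    FC p q x U Q ψ s t → LEMFp p q x U Q ψ s t → GEN2p p q x U Q ψ s t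

/-- piece `LEMG` -/
def P_LEMG : Prop :=
  ∀ {G : Type u} [Group G] [Finite G] {F : Type v} [Field F] [Fintype F] (p q : ℕ) (x : F → G)
    (U Q : Subgroup G) (ψ : G → F) (s t : G),
    FC p q x U Q ψ s t → GEN1p p q x U Q ψ s t → LEMGp p q x U Q ψ s t

/-- piece `QSD` -/
def P_QSD : Prop :=
  ∀ {G : Type u} [Group G] [Finite G] {F : Type v} [Field F] [Fintype F] (p q : ℕ) (x : F → G)
    (U Q : Subgroup G) (ψ : G → F) (s t : G),
    FC p q x U Q ψ s t → QSDp p q x U Q ψ s t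

/-- piece `PPR` -/
def P_PPR : Prop :=
  ∀ {G : Type u} [Group G] [Finite G] {F : Type v} [Field F] [Fintype F] (p q : ℕ) (x : F → G)
    (U Q : Subgroup G) (ψ : G → F) (s t : G),
    FC p q x U Q ψ s t → PPRp p q x U Q ψ s t

/-- piece `LCQ` -/
def P_LCQ : Prop :=
  ∀ {G : Type u} [Group G] [Finite G] {F : Type v} [Field F] [Fintype F] (p q : ℕ) (x : F → G)
    (U Q : Subgroup G) (ψ : G → F) (s t : G),
    FC p q x U Q ψ s t → QSDp p q x U Q ψ s t → PPRp p q x U Q ψ s t → LCQp p q x U Q ψ s t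

/-- piece `HEART` -/
def P_HEART : Prop :=
  ∀ {G : Type u} [Group G] [Finite G] {F : Type v} [Field F] [Fintype F] (p q : ℕ) (x : F → G)
    (U Q : Subgroup G) (ψ : G → F) (s t : G),
    FC p q x U Q ψ s t → BRELp p q x U Q ψ s t → HEARTp p q x U Q ψ s t

/-- piece `KPRE` -/
def P_KPRE : Prop :=
  ∀ {G : Type u} [Group G] [Finite G] {F : Type v} [Field F] [Fintype F] (p q : ℕ) (x : F → G)
    (U Q : Subgroup G) (ψ : G → F) (s t : G),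
    FC p q x U Q ψ s t → LEMGp p q x U Q ψ s t → LCQp p q x U Q ψ s t → QSDp p q x U Q ψ s t → KPREp p q x U Q ψ s t

/-- piece `KINT` -/
def P_KINT : Prop :=
  ∀ {G : Type u} [Group G] [Finite G] {F : Type v} [Field F] [Fintype F] (p q : ℕ) (x : F → G)
    (U Q : Subgroup G) (ψ : G → F) (s t : G),
    FC p q x U Q ψ s t → SIG1p p q x U Q ψ s t → TSp p q x U Q ψ s t → NPp p q x U Q ψ s t → TYPp p q x U Q ψ s t → KINTp p q x U Q ψ s t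

/-- piece `KLIN` -/
def P_KLIN : Prop :=
  ∀ {G : Type u} [Group G] [Finite G] {F : Type v} [Field F] [Fintype F] (p q : ℕ) (x : F → G)
    (U Q : Subgroup G) (ψ : G → F) (s t : G),
    FC p q x U Q ψ s t → BRELp p q x U Q ψ s t → BPRp p q x U Q ψ s t → LEMGp p q x U Q ψ s t → LCQp p q x U Q ψ s t → QSDp p q x U Q ψ s t → KLINp p q x U Q ψ s t

/-- piece `KFIX` -/
def P_KFIX : Prop :=
  ∀ {G : Type u} [Group G] [Finite G] {F : Type v} [Field F] [Fintype F] (p q : ℕ) (x : F → G)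
    (U Q : Subgroup G) (ψ : G → F) (s t : G),
    FC p q x U Q ψ s t → GEN2p p q x U Q ψ s t → QSDp p q x U Q ψ s t → KFIXp p q x U Q ψ s t

/-- piece `KEX` -/
def P_KEX : Prop :=
  ∀ {G : Type u} [Group G] [Finite G] {F : Type v} [Field F] [Fintype F] (p q : ℕ) (x : F → G)
    (U Q : Subgroup G) (ψ : G → F) (s t : G),
    FC p q x U Q ψ s t → KLINp p q x U Q ψ s t → KFIXp p q x U Q ψ s t → KEXp p q x U Q ψ s t

/-- piece `LEMK` -/
def P_LEMK : Prop :=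
  ∀ {G : Type u} [Group G] [Finite G] {F : Type v} [Field F] [Fintype F] (p q : ℕ) (x : F → G)
    (U Q : Subgroup G) (ψ : G → F) (s t : G),
    FC p q x U Q ψ s t → KPREp p q x U Q ψ s t → KEXp p q x U Q ψ s t → KINTp p q x U Q ψ s t → LEMKp p q x U Q ψ s t

/-- piece `CLAIM` -/
def P_CLAIM : Prop :=
  ∀ {G : Type u} [Group G] [Finite G] {F : Type v} [Field F] [Fintype F] (p q : ℕ) (x : F → G)
    (U Q : Subgroup G) (ψ : G → F) (s t : G),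
    FC p q x U Q ψ s t → HEARTp p q x U Q ψ s t → LEMKp p q x U Q ψ s t → CLAIMp p q x U Q ψ s t

/-- piece `EST` -/
def P_EST : Prop :=
  ∀ {G : Type u} [Group G] [Finite G] {F : Type v} [Field F] [Fintype F] (p q : ℕ) (x : F → G)
    (U Q : Subgroup G) (ψ : G → F) (s t : G),
    FC p q x U Q ψ s t → CLAIMp p q x U Q ψ s t → ESTp p q x U Q ψ s t

/-- piece `ACHAR`: characteristic and Frobenius on integer casts -/
def P_ACHAR : Prop :=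
  ∀ (p q : ℕ) [Fact p.Prime] [Fact q.Prime]
    (hA : Nat.Coprime ((p ^ q - 1) / (p - 1)) (p - 1))
    (F : Type v) [Field F] [Fintype F] (hF : Fintype.card F = p ^ q),
    CharP F p ∧ ∀ k : ℤ, (k : F) ^ p = k

/-- piece `AFPC`: the fixed points of Frobenius are the integer casts -/
def P_AFPC : Prop :=
  ∀ (p q : ℕ) [Fact p.Prime] [Fact q.Prime]
    (hA : Nat.Coprime ((p ^ q - 1) / (p - 1)) (p - 1))
    (F : Type v) [Field F] [Fintype F] (hF : Fintype.card F = p ^ q),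
    ∀ z : F, z ^ p = z → ∃ k : ℤ, z = k

/-- piece `AFP1`: the prime field meets the norm-one group trivially -/
def P_AFP1 : Prop :=
  ∀ (p q : ℕ) [Fact p.Prime] [Fact q.Prime]
    (hA : Nat.Coprime ((p ^ q - 1) / (p - 1)) (p - 1))
    (F : Type v) [Field F] [Fintype F] (hF : Fintype.card F = p ^ q),
    ∀ z : F, z ^ p = z → z ^ nU p q = 1 → z = 1

/-- piece `ADEC`: every nonzero element is (prime field element) * (norm-one element) -/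
def P_ADEC : Prop :=
  ∀ (p q : ℕ) [Fact p.Prime] [Fact q.Prime]
    (hA : Nat.Coprime ((p ^ q - 1) / (p - 1)) (p - 1))
    (F : Type v) [Field F] [Fintype F] (hF : Fintype.card F = p ^ q),
    (∀ z : F, z ^ p = z → ∃ k : ℤ, z = k) →
    ∀ w : F, w ≠ 0 → ∃ k : ℤ, ∃ e : F, (k : F) ≠ 0 ∧ e ^ nU p q = 1 ∧ w = k * e

/-- piece `APOLY`: an affine line over the prime field inside the norm-one group forces `p ≤ q` -/
def P_APOLY : Prop :=
  ∀ (p q : ℕ) [Fact p.Prime] [Fact q.Prime]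
    (hA : Nat.Coprime ((p ^ q - 1) / (p - 1)) (p - 1))
    (F : Type v) [Field F] [Fintype F] (hF : Fintype.card F = p ^ q),
    ∀ α β : F, β ≠ 0 → (∀ l : ℤ, (α + l * β) ^ nU p q = 1) → p ≤ q

/-- piece `AE71`: transfer of S1471 to `F` -/
def P_AE71 : Prop :=
  ∀ (p q : ℕ) [Fact p.Prime] [Fact q.Prime]
    (hA : Nat.Coprime ((p ^ q - 1) / (p - 1)) (p - 1))
    (F : Type v) [Field F] [Fintype F] (hF : Fintype.card F = p ^ q),
    p ≠ 2 → q ≠ 2 → ∃ a : F, a ≠ 1 ∧ a ^ nU p q = 1 ∧ (2 - a) ^ nU p q = 1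

/-- piece `ANUM`: numerology -/
def P_ANUM : Prop :=
  ∀ (p q : ℕ) [Fact p.Prime] [Fact q.Prime]
    (hA : Nat.Coprime ((p ^ q - 1) / (p - 1)) (p - 1)), q < p → 5 ≤ p ∧ p ≠ 2 ∧ q ≠ 2

/-- piece `AIMG`: `ψ` maps `U` onto the norm-one group -/
def P_AIMG : Prop :=
  ∀ {G : Type u} [Group G] [Finite G] (p q : ℕ) [Fact p.Prime] [Fact q.Prime]
    (F : Type v) [Field F] [Fintype F] (hF : Fintype.card F = p ^ q) (U : Subgroup G) (ψ : G → F)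
    (hψne : ∀ u ∈ U, ψ u ≠ 0) (hψmul : ∀ u ∈ U, ∀ v ∈ U, ψ (u * v) = ψ u * ψ v)
    (hψinj : Set.InjOn ψ (U : Set G)) (hUcard : Nat.card U * (p - 1) = p ^ q - 1),
    ∀ z : F, z ^ nU p q = 1 ↔ ∃ u ∈ U, ψ u = z

/-- piece `SETX`: the parametrization `x` of `P`, and `s`, `t` -/
def P_SETX : Prop :=
  ∀ {G : Type u} [Group G] [Finite G] (p q : ℕ) [Fact p.Prime] [Fact q.Prime]
    (F : Type v) [Field F] [Fintype F] (hF : Fintype.card F = p ^ q) (P U Q : Subgroup G)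
    (f ψ : G → F) (hf : Set.BijOn f (P : Set G) Set.univ)
    (hfadd : ∀ x ∈ P, ∀ z ∈ P, f (x * z) = f x + f z)
    (hUP : U ≤ Subgroup.normalizer (P : Set G))
    (hψ : ∀ u ∈ U, ψ u ≠ 0 ∧ ∀ x ∈ P, f (u * x * u⁻¹) = ψ u * f x)
    (hP0Q : ∀ x ∈ P, f x ^ p = f x → x ∈ Subgroup.normalizer (Q : Set G))
    (y : G) (hy : y ∈ Q)
    (hP0U : ∀ x ∈ P, f x ^ p = f x → y * x * y⁻¹ ∈ Subgroup.normalizer (U : Set G)),
    ∃ (x : F → G) (s t : G), (∀ a b, x (a + b) = x a * x b) ∧ Function.Injective x ∧ s = x 1 ∧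
      (∀ u ∈ U, ∀ a, u * x a * u⁻¹ = x (ψ u * a)) ∧ s ∈ Subgroup.normalizer (Q : Set G) ∧
      (∃ y ∈ Q, t = y * s * y⁻¹) ∧ t ∈ Subgroup.normalizer (U : Set G)

end Cfsg.Agent.Lib.Helper53.FCStmt
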