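import Mathlib
import Cfsg.Agent.Lib.Helper57.FTStmt

/-!
# S3999 / CNT (call by helper57)

In a Frobenius group `X = K ⋊ C` the elements of order `d > 1`, `d ∣ |C|`, are counted by
`(k, c) ↦ k * c * k⁻¹`.
-/

set_option autoImplicit false

universe u

namespace Cfsg.Agent.Lib.Helper53.FTCNT

open Cfsg.Agent.Lib.Helper57.FTStmt
open scoped Pointwise

theorem main : Cnt.{u} := by
  intro X _ _ C K hC hKn hcompl hKker hcop d hd1 hdC
  classical
  obtain ⟨hCbot, hCtop, hTI⟩ := hC
  have hdisj : K ⊓ C = ⊥ := disjoint_iff.mp hcompl.disjoint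
  have hconj : ∀ (k x : X), orderOf (k * x * k⁻¹) = orderOf x := by
    intro k x
    have h1 := orderOf_injective (MulAut.conj k).toMonoidHom (MulAut.conj k).injective x
    simpa using h1
  let f : K × {c : C // orderOf c = d} → {x : X // orderOf x = d} := fun kc =>
    ⟨(kc.1 : X) * ((kc.2.1 : C) : X) * (kc.1 : X)⁻¹, by
      rw [hconj, Subgroup.orderOf_coe]
      exact kc.2.2⟩
  have hinj : Function.Injective f := by
    rintro ⟨k, c, hc⟩ ⟨k', c', hc'⟩ h
    have h1 : (k : X) * (c : X) * (k : X)⁻¹ = (k' : X) * (c' : X) * (k' : X)⁻¹ :=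
      congrArg Subtype.val h
    have hg : (c' : X) = ((k' : X)⁻¹ * k) * c * ((k' : X)⁻¹ * k)⁻¹ := by
      calc (c' : X) = (k' : X)⁻¹ * ((k' : X) * (c' : X) * (k' : X)⁻¹) * k' := by group
        _ = (k' : X)⁻¹ * ((k : X) * (c : X) * (k : X)⁻¹) * k' := by rw [h1]
        _ = ((k' : X)⁻¹ * k) * c * ((k' : X)⁻¹ * k)⁻¹ := by group
    have hgK : (k' : X)⁻¹ * k ∈ K := K.mul_mem (K.inv_mem k'.2) k.2
    have hgC : (k' : X)⁻¹ * k ∈ C := by
      by_contra hnot
      have hbot := hTI _ hnot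
      have hmem : (c' : X) ∈ C ⊓ (MulAut.conj ((k' : X)⁻¹ * k) • C) := by
        refine ⟨c'.2, ?_⟩
        have h5 := Subgroup.smul_mem_pointwise_smul (c : X) (MulAut.conj ((k' : X)⁻¹ * k)) C c.2
        rw [MulAut.smul_def, MulAut.conj_apply] at h5
        rw [hg]
        exact h5
      rw [hbot, Subgroup.mem_bot] at hmem
      have h6 : orderOf c' = 1 := by
        rw [← Subgroup.orderOf_coe, hmem, orderOf_one]
      omega
    have hg1 : (k' : X)⁻¹ * k = 1 := by
      have h7 : (k' : X)⁻¹ * k ∈ K ⊓ C := ⟨hgK, hgC⟩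
      rw [hdisj] at h7
      exact h7
    have hkk : k = k' := by
      apply Subtype.ext
      calc (k : X) = k' * ((k' : X)⁻¹ * k) := by group
        _ = k' := by rw [hg1, mul_one]
    subst hkk
    have hcc : (c : X) = c' := by
      calc (c : X) = (k : X)⁻¹ * ((k : X) * c * (k : X)⁻¹) * k := by group
        _ = (k : X)⁻¹ * ((k : X) * c' * (k : X)⁻¹) * k := by rw [h1]
        _ = c' := by group
    have hcc' : c = c' := Subtype.ext hcc
    subst hcc'
    rfl
  have hsurj : Function.Surjective f := by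
    rintro ⟨x, hx⟩
    have hxK : x ∉ K := by
      intro hxK
      have h1 : d ∣ Nat.card K := by
        rw [← hx]
        exact Subgroup.orderOf_dvd_natCard K hxK
      have h2 : d ∣ 1 := by
        have h3 := Nat.dvd_gcd h1 hdC
        rw [Nat.Coprime.gcd_eq_one hcop] at h3
        exact h3
      have h4 := Nat.dvd_one.mp h2
      omega
    have hxker : x ∉ Cfsg.frobeniusKernel C := by
      rw [← hKker]
      exact hxK
    have hex : ∃ g : X, x ∈ MulAut.conj g • C := by
      by_contra hno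
      push Not at hno
      exact hxker (Or.inr hno)
    obtain ⟨g, hg⟩ := hex
    rw [Subgroup.mem_pointwise_smul_iff_inv_smul_mem] at hg
    have hg' : g⁻¹ * x * g ∈ C := by
      have h5 : (MulAut.conj g)⁻¹ • x = g⁻¹ * x * g := by
        rw [MulAut.smul_def, MulAut.conj_inv_apply]
      rw [h5] at hg
      exact hg
    obtain ⟨⟨k, c₀⟩, hkc, -⟩ := Subgroup.IsComplement.existsUnique hcompl g
    have hkc' : (k : X) * (c₀ : X) = g := hkc
    have hc1 : (k : X)⁻¹ * x * k ∈ C := by
      have h6 : (k : X)⁻¹ * x * k = (c₀ : X) * (g⁻¹ * x * g) * (c₀ : X)⁻¹ := by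
        rw [← hkc']
        group
      rw [h6]
      exact C.mul_mem (C.mul_mem c₀.2 hg') (C.inv_mem c₀.2)
    refine ⟨⟨⟨(k : X), k.2⟩, ⟨⟨(k : X)⁻¹ * x * k, hc1⟩, ?_⟩⟩, ?_⟩
    · rw [← Subgroup.orderOf_coe]
      show orderOf ((k : X)⁻¹ * x * k) = d
      have h7 := hconj (k : X)⁻¹ x
      rw [inv_inv] at h7
      rw [h7, hx]
    · apply Subtype.ext
      show (k : X) * ((k : X)⁻¹ * x * k) * (k : X)⁻¹ = x
      group
  have hbij : Function.Bijective f := ⟨hinj, hsurj⟩
  rw [← Nat.card_congr (Equiv.ofBijective f hbij), Nat.card_prod]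

end Cfsg.Agent.Lib.Helper53.FTCNT
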