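import Mathlib
import Cfsg.Agent.Lib.Helper1.PDStmt

set_option autoImplicit false

/-!
# S4020 piece NONAB3 (second seat, helper53)

A nonabelian `p`-group of exponent `p` has a nonabelian subgroup of order `p³`.
-/

namespace Cfsg.Agent.Lib.Helper53.PDNONAB3

universe u

open Cfsg.Agent.Lib.Helper1.PDStmt
open scoped commutatorElement

/-- In a nonabelian nilpotent group some nontrivial commutator is central. -/
theorem exists_central_comm {G : Type*} [Group G] (hnil : Group.IsNilpotent G)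
    (h : ∃ a b : G, a * b ≠ b * a) :
    ∃ x y : G, x * y * x⁻¹ * y⁻¹ ≠ 1 ∧
      ∀ g : G, g * (x * y * x⁻¹ * y⁻¹) = x * y * x⁻¹ * y⁻¹ * g := by
  obtain ⟨n, hn⟩ := Subgroup.nilpotent_iff_lowerCentralSeries.mp hnil
  induction n with
  | zero =>
    exfalso
    obtain ⟨a, b, hab⟩ := h
    rw [Subgroup.lowerCentralSeries_zero] at hn
    have ha : a ∈ (⊥ : Subgroup G) := hn ▸ Subgroup.mem_top a
    have hb : b ∈ (⊥ : Subgroup G) := hn ▸ Subgroup.mem_top b
    rw [Subgroup.mem_bot] at ha hb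
    exact hab (by rw [ha, hb])
  | succ n ih =>
    by_cases hbot : Subgroup.lowerCentralSeries (⊤ : Subgroup G) n = ⊥
    · exact ih hbot
    · have hcent : ∀ a ∈ Subgroup.lowerCentralSeries (⊤ : Subgroup G) n,
          ∀ g : G, g * a = a * g := by
        intro a ha g
        have hmem : ⁅a, g⁆ ∈ Subgroup.lowerCentralSeries (⊤ : Subgroup G) (n + 1) := by
          rw [Subgroup.lowerCentralSeries_succ]
          exact Subgroup.commutator_mem_commutator ha (Subgroup.mem_top g)
        rw [hn, Subgroup.mem_bot, commutatorElement_def] at hmem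
        have h2 := congrArg (fun t => t * g * a) hmem
        simp only [inv_mul_cancel_right, one_mul] at h2
        exact h2.symm
      cases n with
      | zero =>
        exfalso
        obtain ⟨a, b, hab⟩ := h
        exact hab (hcent b (by rw [Subgroup.lowerCentralSeries_zero]; exact Subgroup.mem_top b) a)
      | succ m =>
        have hbot' := hbot
        rw [Subgroup.lowerCentralSeries_succ, Subgroup.commutator_def,
          Subgroup.closure_eq_bot_iff, Set.not_subset] at hbot'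
        obtain ⟨c, ⟨a, ha, b, hb, rfl⟩, hc1⟩ := hbot'
        rw [Set.mem_singleton_iff, commutatorElement_def] at hc1
        refine ⟨a, b, hc1, fun g => hcent _ ?_ g⟩
        rw [Subgroup.lowerCentralSeries_succ, ← commutatorElement_def]
        exact Subgroup.commutator_mem_commutator ha hb

/-- The set `{y^j x^i c^k}` is a subgroup with at most `p³` elements. -/
theorem core {X : Type*} [Group X] [Finite X] (p : ℕ) (hp : p.Prime) (x y c : X)
    (hx : x ^ p = 1) (hy : y ^ p = 1) (hc : c ^ p = 1)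
    (hxc : x * c = c * x) (hyc : y * c = c * y) (hxy : x * y = y * x * c) :
    ∃ H : Subgroup X, x ∈ H ∧ y ∈ H ∧ (∀ s ∈ H, ∃ i j k : ℕ, s = y ^ j * x ^ i * c ^ k) ∧
      Nat.card ↥H ≤ p ^ 3 := by
  have hxc' : Commute x c := hxc
  have hyc' : Commute y c := hyc
  have hck_y : ∀ k j : ℕ, c ^ k * y ^ j = y ^ j * c ^ k := fun k j => ((hyc'.pow_pow j k).eq).symm
  have hck_x : ∀ k i : ℕ, c ^ k * x ^ i = x ^ i * c ^ k := fun k i => ((hxc'.pow_pow i k).eq).symm
  have h1 : ∀ i : ℕ, x ^ i * y = y * x ^ i * c ^ i := by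
    intro i
    induction i with
    | zero => simp
    | succ i ih =>
      have hci : c ^ i * x = x * c ^ i := by simpa using hck_x i 1
      calc x ^ (i + 1) * y = x ^ i * (x * y) := by rw [pow_succ, mul_assoc]
        _ = x ^ i * y * x * c := by rw [hxy]; simp only [mul_assoc]
        _ = y * x ^ i * (c ^ i * x) * c := by rw [ih]; simp only [mul_assoc]
        _ = y * x ^ i * (x * c ^ i) * c := by rw [hci]
        _ = y * x ^ (i + 1) * c ^ (i + 1) := by rw [pow_succ, pow_succ]; simp only [mul_assoc]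
  have h2 : ∀ i j : ℕ, x ^ i * y ^ j = y ^ j * x ^ i * c ^ (i * j) := by
    intro i j
    induction j with
    | zero => simp
    | succ j ih =>
      have hcy : c ^ (i * j) * y = y * c ^ (i * j) := by simpa using hck_y (i * j) 1
      calc x ^ i * y ^ (j + 1) = x ^ i * y ^ j * y := by rw [pow_succ, mul_assoc]
        _ = y ^ j * x ^ i * (c ^ (i * j) * y) := by rw [ih]; simp only [mul_assoc]
        _ = y ^ j * (x ^ i * y) * c ^ (i * j) := by rw [hcy]; simp only [mul_assoc]
        _ = y ^ j * (y * x ^ i * c ^ i) * c ^ (i * j) := by rw [h1]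
        _ = y ^ (j + 1) * x ^ i * c ^ (i + i * j) := by
            rw [pow_succ, pow_add]; simp only [mul_assoc]
        _ = y ^ (j + 1) * x ^ i * c ^ (i * (j + 1)) := by
            congr 2; ring
  have hmul : ∀ i j k i' j' k' : ℕ,
      (y ^ j * x ^ i * c ^ k) * (y ^ j' * x ^ i' * c ^ k') =
        y ^ (j + j') * x ^ (i + i') * c ^ (i * j' + k + k') := by
    intro i j k i' j' k'
    calc (y ^ j * x ^ i * c ^ k) * (y ^ j' * x ^ i' * c ^ k')
        = y ^ j * x ^ i * (c ^ k * y ^ j') * x ^ i' * c ^ k' := by simp only [mul_assoc]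
      _ = y ^ j * (x ^ i * y ^ j') * (c ^ k * x ^ i') * c ^ k' := by
          rw [hck_y k j']; simp only [mul_assoc]
      _ = y ^ j * (y ^ j' * x ^ i * c ^ (i * j')) * (x ^ i' * c ^ k) * c ^ k' := by
          rw [h2 i j', hck_x k i']
      _ = y ^ j * y ^ j' * x ^ i * (c ^ (i * j') * x ^ i') * c ^ k * c ^ k' := by
          simp only [mul_assoc]
      _ = y ^ j * y ^ j' * x ^ i * (x ^ i' * c ^ (i * j')) * c ^ k * c ^ k' := by
          rw [hck_x (i * j') i']
      _ = y ^ (j + j') * x ^ (i + i') * c ^ (i * j' + k + k') := by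
          rw [pow_add, pow_add, pow_add, pow_add]; simp only [mul_assoc]
  let M : Submonoid X :=
    { carrier := {s | ∃ i j k : ℕ, s = y ^ j * x ^ i * c ^ k}
      mul_mem' := by
        rintro _ _ ⟨i, j, k, rfl⟩ ⟨i', j', k', rfl⟩
        exact ⟨i + i', j + j', i * j' + k + k', hmul i j k i' j' k'⟩
      one_mem' := ⟨0, 0, 0, by simp⟩ }
  let H : Subgroup X :=
    { M with
      inv_mem' := by
        intro s hs
        have hpow : s⁻¹ = s ^ (Nat.card X - 1) := by
          apply inv_eq_of_mul_eq_one_right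
          rw [← pow_succ', Nat.sub_add_cancel Nat.card_pos, pow_card_eq_one']
        rw [hpow]
        exact M.pow_mem hs _ }
  have hmemH : ∀ s, s ∈ H ↔ ∃ i j k : ℕ, s = y ^ j * x ^ i * c ^ k := fun s => Iff.rfl
  refine ⟨H, (hmemH x).mpr ⟨1, 0, 0, by simp⟩, (hmemH y).mpr ⟨0, 1, 0, by simp⟩,
    fun s hs => (hmemH s).mp hs, ?_⟩
  let f : Fin p × Fin p × Fin p → ↥H := fun t =>
    ⟨y ^ (t.1 : ℕ) * x ^ (t.2.1 : ℕ) * c ^ (t.2.2 : ℕ), (hmemH _).mpr ⟨t.2.1, t.1, t.2.2, rfl⟩⟩
  have hf : Function.Surjective f := by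
    rintro ⟨s, hs⟩
    obtain ⟨i, j, k, rfl⟩ := (hmemH s).mp hs
    refine ⟨(⟨j % p, Nat.mod_lt _ hp.pos⟩, ⟨i % p, Nat.mod_lt _ hp.pos⟩,
      ⟨k % p, Nat.mod_lt _ hp.pos⟩), ?_⟩
    apply Subtype.ext
    show y ^ (j % p) * x ^ (i % p) * c ^ (k % p) = y ^ j * x ^ i * c ^ k
    rw [← pow_eq_pow_mod j hy, ← pow_eq_pow_mod i hx, ← pow_eq_pow_mod k hc]
  calc Nat.card ↥H ≤ Nat.card (Fin p × Fin p × Fin p) := Nat.card_le_card_of_surjective f hf
    _ = p ^ 3 := by rw [Nat.card_prod, Nat.card_prod, Nat.card_fin]; ring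

/-- [NONAB3]. -/
theorem main : NonAb3.{u} := by
  intro X _ _ p _ P hP hexp hnab
  obtain ⟨a, ha, b, hb, hab⟩ := hnab
  have hp : p.Prime := Fact.out
  have hnil : Group.IsNilpotent ↥P := hP.isNilpotent
  obtain ⟨x, y, hc1, hcc⟩ := exists_central_comm hnil
    ⟨⟨a, ha⟩, ⟨b, hb⟩, fun h => hab (by simpa using congrArg Subtype.val h)⟩
  -- transfer to `X`
  set c : X := (x : X) * (y : X) * (x : X)⁻¹ * (y : X)⁻¹ with hcdef
  have hcP : c ∈ P := P.mul_mem (P.mul_mem (P.mul_mem x.2 y.2) (P.inv_mem x.2)) (P.inv_mem y.2)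
  have hcne : c ≠ 1 := by
    intro h
    apply hc1
    apply Subtype.ext
    simpa [hcdef] using h
  have hcomm : ∀ g : ↥P, (g : X) * c = c * (g : X) := by
    intro g
    have := congrArg Subtype.val (hcc g)
    simpa [hcdef] using this
  have hxc : (x : X) * c = c * (x : X) := hcomm x
  have hyc : (y : X) * c = c * (y : X) := hcomm y
  have hxy : (x : X) * (y : X) = (y : X) * (x : X) * c := by
    have e1 : c * (y : X) * (x : X) = (x : X) * (y : X) := by
      rw [hcdef]; group
    rw [← e1, ← hyc, mul_assoc, ← hxc, ← mul_assoc]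
  obtain ⟨H, hxH, hyH, hform, hcard⟩ := core p hp (x : X) (y : X) c (hexp _ x.2) (hexp _ y.2)
    (hexp _ hcP) hxc hyc hxy
  have hHP : H ≤ P := by
    intro s hs
    obtain ⟨i, j, k, rfl⟩ := hform s hs
    exact P.mul_mem (P.mul_mem (P.pow_mem y.2 _) (P.pow_mem x.2 _)) (P.pow_mem hcP _)
  have hnc : (x : X) * (y : X) ≠ (y : X) * (x : X) := by
    intro h
    rw [hxy] at h
    exact hcne (by simpa using h)
  refine ⟨H, hHP, ?_, (x : X), hxH, (y : X), hyH, hnc⟩
  have hHp : IsPGroup p ↥H := hP.to_le hHP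
  obtain ⟨n, hn⟩ := IsPGroup.iff_card.mp hHp
  have hn3 : n ≤ 3 := by
    rw [hn] at hcard
    exact (Nat.pow_le_pow_iff_right hp.one_lt).mp hcard
  have habel : n ≤ 2 → ∀ s t : ↥H, s * t = t * s := by
    intro hn2 s t
    interval_cases n
    · rw [pow_zero] at hn
      have : Subsingleton ↥H := (Nat.card_eq_one_iff_unique.mp hn).1
      exact Subsingleton.elim _ _
    · rw [pow_one] at hn
      have : IsCyclic ↥H := isCyclic_of_prime_card hn
      exact (IsCyclic.isMulCommutative (α := ↥H)).is_comm.comm s t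
    · exact (IsPGroup.isMulCommutative_of_card_eq_prime_sq hn).is_comm.comm s t
  by_contra hne
  have hn2 : n ≤ 2 := by
    rcases Nat.lt_or_ge n 3 with h | h
    · omega
    · exfalso
      have : n = 3 := le_antisymm hn3 h
      exact hne (by rw [hn, this])
  have := habel hn2 ⟨(x : X), hxH⟩ ⟨(y : X), hyH⟩
  exact hnc (by simpa using congrArg Subtype.val this)

end Cfsg.Agent.Lib.Helper53.PDNONAB3
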