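import Mathlib
import Cfsg.Agent.Lib.Helper56.PEStmt

/-!
# S2276 piece K2 (helper56's call): one `S`-cycle inside a longer cycle.
-/

set_option autoImplicit false

namespace Cfsg.Agent.Lib.Helper53.PEK2

open Equiv Equiv.Perm Cfsg.Agent.Lib.Helper56

theorem fixZ {β : Type} [DecidableEq β] [Fintype β] (c : Perm β) (hc : c.IsCycle) (x : β)
    (hx : c x ≠ x) (n : ℤ) (h : (c ^ n) x = x) : c ^ n = 1 := by
  have hpos : (0 : ℤ) < (orderOf c : ℤ) := by exact_mod_cast orderOf_pos c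
  have e : c ^ n = c ^ ((n % (orderOf c : ℤ)).toNat) := by
    rw [← zpow_natCast, Int.toNat_of_nonneg (Int.emod_nonneg _ hpos.ne'), zpow_mod_orderOf]
  rw [e] at h ⊢
  exact (hc.pow_eq_one_iff' hx).2 h

theorem main (hOrb : PEStmt.Orb) (hBM : PEStmt.BM) (hBlow : PEStmt.Blow)
    (hRP : PEStmt.RP) (hRNS : PEStmt.RNS) : PEStmt.K2 := by
  intro β _ _ p hp c hc hsupp S hS5 hpS hSR hSlt
  have hord : orderOf c = Fintype.card β := by rw [hc.orderOf, hsupp, Finset.card_univ]
  have hmv : ∀ x : β, c x ≠ x := by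
    intro x
    have : x ∈ c.support := by rw [hsupp]; exact Finset.mem_univ x
    exact Perm.mem_support.1 this
  have hfixZ : ∀ (n : ℤ) (x : β), (c ^ n) x = x → ((Fintype.card β : ℕ) : ℤ) ∣ n := by
    intro n x h
    rw [← hord, orderOf_dvd_iff_zpow_eq_one]
    exact fixZ c hc x (hmv x) n h
  obtain ⟨M, hM⟩ := hSR
  have hM2 : 2 ≤ M := by
    by_contra hlt
    have : M = 0 ∨ M = 1 := by omega
    rcases this with rfl | rfl <;> omega
  have hne : Nonempty β := Fintype.card_pos_iff.mp (by omega)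
  obtain ⟨x₀⟩ := hne
  have hux : (c ^ M) x₀ ≠ x₀ := by
    intro h
    have h1 := hfixZ (M : ℤ) x₀ (by rw [zpow_natCast]; exact h)
    have h2 : Fintype.card β ∣ M := Int.natCast_dvd_natCast.1 h1
    have h3 := Nat.le_of_dvd (by omega) h2
    nlinarith
  have hx₀mem : x₀ ∈ ((c ^ M).cycleOf x₀).support := by
    rw [Perm.mem_support_cycleOf_iff]
    exact ⟨Perm.SameCycle.refl _ _, Perm.mem_support.2 hux⟩
  obtain ⟨c', hc'val, hc'cyc, hc'supp⟩ := hOrb (c ^ M) x₀ hux
  have hc'pow : ∀ (k : ℕ) (b : {y // y ∈ ((c ^ M).cycleOf x₀).support}),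
      ((c' ^ k) b).1 = ((c ^ M) ^ k) b.1 := by
    intro k
    induction k with
    | zero => intro b; simp
    | succ k ih =>
      intro b
      rw [pow_succ', pow_succ', Perm.mul_apply, Perm.mul_apply, ← hc'val, ih]
  have hcardγ : Fintype.card {y // y ∈ ((c ^ M).cycleOf x₀).support} = S := by
    have h1 : orderOf c' = Fintype.card {y // y ∈ ((c ^ M).cycleOf x₀).support} := by
      rw [hc'cyc.orderOf, hc'supp, Finset.card_univ]
    rw [← h1]
    apply Nat.dvd_antisymm
    · apply orderOf_dvd_of_pow_eq_one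
      ext b
      rw [hc'pow, ← pow_mul, mul_comm, ← hM, ← hord, pow_orderOf_eq_one]
      rfl
    · have h2 : (c' ^ orderOf c') = 1 := pow_orderOf_eq_one c'
      have h3 : ((c ^ M) ^ orderOf c') x₀ = x₀ := by
        have := hc'pow (orderOf c') ⟨x₀, hx₀mem⟩
        rw [h2] at this
        exact this.symm
      have h4 := hfixZ ((M * orderOf c' : ℕ) : ℤ) x₀ (by rw [zpow_natCast, pow_mul]; exact h3)
      have h5 : S * M ∣ M * orderOf c' := by
        rw [← hM]
        exact Int.natCast_dvd_natCast.1 h4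
      exact Nat.dvd_of_mul_dvd_mul_left (by omega : 0 < M) (by rwa [mul_comm S M] at h5)
  obtain ⟨g', -, hgood⟩ := hBM p hp c' hc'cyc hc'supp (hcardγ ▸ hpS) (hcardγ ▸ hS5)
  obtain ⟨t', ht'def⟩ : ∃ t' : Perm {y // y ∈ ((c ^ M).cycleOf x₀).support},
      t' = g' * c' * g'⁻¹ := ⟨_, rfl⟩
  rw [← ht'def] at hgood
  obtain ⟨t, htdef⟩ : ∃ t : Perm β, t = Perm.ofSubtype t' := ⟨_, rfl⟩
  have htval : ∀ b : {y // y ∈ ((c ^ M).cycleOf x₀).support}, t b.1 = (t' b).1 := by
    intro b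
    rw [htdef]
    exact Perm.ofSubtype_apply_coe t' b
  refine ⟨t, ?_, ?_, ?_⟩
  · rw [htdef, Perm.cycleType_ofSubtype, ht'def, Perm.cycleType_conj, hc'cyc.cycleType, hc'supp,
      Finset.card_univ, hcardγ]
  · rintro ⟨k, hk⟩
    have hblow := hBlow (Subtype.val) c t c' t' M (by omega) (fun b => hc'val b) htval
      (fun y hy => by
        rw [htdef]
        apply Perm.ofSubtype_apply_of_not_mem t'
        intro hy'
        exact hy ⟨⟨y, hy'⟩, rfl⟩)
      (by
        rintro b i hi0 hiM ⟨b', hb'⟩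
        have hs1 : (c ^ M).SameCycle x₀ b.1 := (Perm.mem_support_cycleOf_iff.1 b.2).1
        have hs2 : (c ^ M).SameCycle x₀ b'.1 := (Perm.mem_support_cycleOf_iff.1 b'.2).1
        obtain ⟨j, hj⟩ := hs1.symm.trans hs2
        have hfix : (c ^ (-(i : ℤ) + (M : ℤ) * j)) b.1 = b.1 := by
          rw [zpow_add, Perm.mul_apply, zpow_mul, zpow_natCast, hj, hb', zpow_neg, zpow_natCast]
          simp
        have h1 := hfixZ _ b.1 hfix
        have h2 : (M : ℤ) ∣ -(i : ℤ) + (M : ℤ) * j :=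
          dvd_trans ⟨(S : ℤ), by rw [hM]; push_cast; ring⟩ h1
        have h3 : (M : ℤ) ∣ -(i : ℤ) := (dvd_add_left (dvd_mul_right _ _)).1 h2
        have h4 : M ∣ i := Int.natCast_dvd_natCast.1 ((dvd_neg).1 h3)
        have := Nat.le_of_dvd hi0 h4
        omega)
    apply hRP Subtype.val Subtype.val_injective p hp (c' * t') ((c * t) ^ M) hblow hgood.1
    have hd := orderOf_pow_dvd (x := c * t) M
    rw [hk] at hd
    obtain ⟨j, -, hj⟩ := (Nat.dvd_prime_pow hp).1 hd
    exact ⟨j, hj⟩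
  · exact hRNS Subtype.val Subtype.val_injective c' t' (c ^ M) t (fun b => hc'val b) htval hgood.2
      (Subgroup.closure {c, t}) (pow_mem (Subgroup.subset_closure (by simp)) M)
      (Subgroup.subset_closure (by simp))

end Cfsg.Agent.Lib.Helper53.PEK2
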