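import Mathlib
import Cfsg.Agent.Lib.Helper56.PEStmt

/-!
# S2276 piece ORB (helper56's call): the cycle of `u` through `x₀` as a full cycle on the
subtype of its support.
-/

set_option autoImplicit false

namespace Cfsg.Agent.Lib.Helper53.PEORB

open Equiv Equiv.Perm Cfsg.Agent.Lib.Helper56

theorem main : PEStmt.Orb := by
  intro α _ _ u x₀ hx₀
  have hmem : ∀ y : α, y ∈ (u.cycleOf x₀).support ↔ u.SameCycle x₀ y := by
    intro y
    rw [Perm.mem_support_cycleOf_iff]
    constructor
    · exact fun h => h.1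
    · exact fun h => ⟨h, by rwa [Perm.mem_support]⟩
  have hpres : ∀ y : α, u y ∈ (u.cycleOf x₀).support ↔ y ∈ (u.cycleOf x₀).support := by
    intro y
    rw [hmem, hmem, Perm.sameCycle_apply_right]
  have hmove : ∀ y : α, y ∈ (u.cycleOf x₀).support → u y ≠ y := by
    intro y hy huy
    rw [hmem] at hy
    obtain ⟨i, rfl⟩ := hy
    apply hx₀
    have : (u ^ i) (u x₀) = (u ^ i) x₀ := by
      have h1 : u ((u ^ i) x₀) = (u ^ i) (u x₀) := by
        rw [← Perm.mul_apply, ← Perm.mul_apply, ← zpow_one_add, ← zpow_add_one]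
        congr 2
        ring
      rw [← h1, huy]
    exact (u ^ i).injective this
  set c : Perm {y // y ∈ (u.cycleOf x₀).support} := u.subtypePerm hpres with hc
  have hcval : ∀ b, (c b).1 = u b.1 := fun b => rfl
  have hczpow : ∀ (i : ℤ) b, ((c ^ i) b).1 = (u ^ i) b.1 := by
    intro i b
    rw [hc, Perm.subtypePerm_zpow]
    rfl
  have hx₀mem : x₀ ∈ (u.cycleOf x₀).support := (hmem x₀).2 (Perm.SameCycle.refl u x₀)
  refine ⟨c, fun b => (hcval b).symm, ⟨⟨x₀, hx₀mem⟩, ?_, ?_⟩, ?_⟩
  · intro h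
    exact hx₀ (congrArg Subtype.val h)
  · intro y _
    obtain ⟨i, hi⟩ := (hmem y.1).1 y.2
    refine ⟨i, Subtype.ext ?_⟩
    rw [hczpow]
    exact hi
  · ext b
    simp only [Perm.mem_support, Finset.mem_univ, iff_true]
    intro h
    exact hmove b.1 b.2 (congrArg Subtype.val h)

end Cfsg.Agent.Lib.Helper53.PEORB
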