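import Mathlib
import Cfsg.Agent.Lib.Helper44.PGStmt

/-!
# S2474 piece PT (helper44's call): a nontrivial isometry of odd prime order `r ≠ p` lives in a
torus of rank `k` with `2k ≤ dim`.
-/

set_option autoImplicit false

namespace Cfsg.Agent.Lib.Helper53.PGPT

open Matrix Polynomial
open Cfsg.Agent.Lib.Helper44.PGStmt

universe u

theorem main : GDecomp.{u} → GTorBound.{u} → PrimeTor.{u} := by
  intro hDec hTor F _ _ p _ _ κ _ _ G Y r hG hY hr hr2 hrp hYr hY1
  have hr0 : 0 < r := hr.pos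
  have hrF : (r : F) ≠ 0 := by
    intro h
    have h1 : p ∣ r := (CharP.cast_eq_zero_iff F p r).1 h
    have h2 := (Nat.prime_dvd_prime_iff_eq (Fact.out : p.Prime) hr).1 h1
    exact hrp h2.symm
  obtain ⟨k₁, k₂, G₁, G₂, T₂, J, -, hG₂, hT₂, hT₂r, hfix, -, hblock, -, -⟩ :=
    hDec F κ G Y r hG hY hr0 hrF hYr
  have hdim : k₁ + k₂ = Fintype.card κ := by
    have h1 := J.finrank_eq
    rw [Module.finrank_pi, Module.finrank_pi, Fintype.card_sum, Fintype.card_fin,
      Fintype.card_fin] at h1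
    exact h1
  have hk₂ : 0 < k₂ := by
    by_contra h0
    have hk : k₂ = 0 := by omega
    subst hk
    apply hY1
    have hall : ∀ w : κ → F, Y *ᵥ w = w := by
      intro w
      obtain ⟨u, rfl⟩ := J.surjective w
      rw [hblock u]
      congr 1
      funext i
      rcases i with i | i
      · rfl
      · exact i.elim0
    apply Matrix.toLin'.injective
    apply LinearMap.ext
    intro w
    rw [Matrix.toLin'_apply, hall w, Matrix.toLin'_one, LinearMap.id_apply]
  have hr3 : 2 < r := by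
    have := hr.two_le
    omega
  obtain ⟨k, hk1, hk2, hk3⟩ := hTor F (Fin k₂) G₂ T₂ r (by rw [Fintype.card_fin]; exact hk₂) hG₂
    hT₂ hr3 hT₂r (by
      intro ℓ hℓ hℓr v hv
      have hℓeq : ℓ = r := (Nat.prime_dvd_prime_iff_eq hℓ hr).1 hℓr
      rw [hℓeq, Nat.div_self hr0, pow_one] at hv
      exact hfix v hv)
  rw [Fintype.card_fin] at hk2
  exact ⟨k, hk1, by omega, hk3⟩

end Cfsg.Agent.Lib.Helper53.PGPT
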