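import Mathlib
import Cfsg.Agent.Lib.Helper44.PGStmt
import Cfsg.Agent.Lib.Helper44.OCls1

/-!
# S2474 piece TORB (helper44's call): an isometry all of whose eigenvalues have order exactly
`K > 2` lives in a torus of rank `k` with `2k ≤ dim`.
-/

set_option autoImplicit false

namespace Cfsg.Agent.Lib.Helper53.PGTORB

open Matrix Polynomial
open Cfsg.Agent.Lib.Helper44.PGStmt Cfsg.Agent.Lib.Helper40.RecipPoly

universe u

theorem main : RootDvd.{u} → PairDvd.{u} → GTorBound.{u} := by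
  intro hRD hPD F _ _ κ _ _ G Z K hκ hG hZ hK hZK hfix
  have hK0 : 0 < K := by omega
  have hGu : IsUnit G.det := isUnit_iff_ne_zero.mpr hG
  obtain ⟨Z', hZ'⟩ : ∃ Z' : Matrix κ κ F, Z' = G⁻¹ * (Zᵀ * G) := ⟨_, rfl⟩
  have h1 : Z' * Z = 1 := by
    calc Z' * Z = G⁻¹ * (Zᵀ * G * Z) := by rw [hZ', Matrix.mul_assoc]
      _ = 1 := by rw [hZ, Matrix.nonsing_inv_mul _ hGu]
  have hZZ' : Z * Z' = 1 := mul_eq_one_comm.mp h1
  have hrs : rstar (RingHom.id F) Z.charpoly = Z.charpoly := by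
    rw [Cfsg.Agent.Lib.Helper44.OCls1.rstar_charpoly_inv Z Z' hZZ', hZ', Matrix.charpoly_mul_comm,
      Matrix.mul_assoc, Matrix.mul_nonsing_inv _ hGu, Matrix.mul_one, Matrix.charpoly_transpose]
  have hmonic : Z.charpoly.Monic := Matrix.charpoly_monic Z
  have hdeg : Z.charpoly.natDegree = Fintype.card κ := Matrix.charpoly_natDegree_eq_dim Z
  have hdetZ : Z.det ≠ 0 :=
    left_ne_zero_of_mul_eq_one (by rw [← Matrix.det_mul, hZZ', Matrix.det_one])
  have hc0 : Z.charpoly.coeff 0 ≠ 0 := by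
    intro h0
    apply hdetZ
    rw [Matrix.det_eq_sign_charpoly_coeff, h0, mul_zero]
  have hnu : ¬ IsUnit Z.charpoly := by
    intro hu
    have := Polynomial.natDegree_eq_zero_of_isUnit hu
    omega
  obtain ⟨f, hf, hfc⟩ := WfDvdMonoid.exists_irreducible_factor hnu hmonic.ne_zero
  have hfd : f.natDegree ≤ Fintype.card κ := by
    rw [← hdeg]
    exact Polynomial.natDegree_le_of_dvd hfc hmonic.ne_zero
  have hf1 : 1 ≤ f.natDegree := hf.natDegree_pos
  obtain ⟨hd1, hd2⟩ := hRD F κ Z K hK0 hZK hfix f hf hfc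
  by_cases hself : f ∣ rstar (RingHom.id F) f
  · obtain ⟨hev, hdiv⟩ := hd2 hK hself
    refine ⟨f.natDegree / 2, ?_, ?_, Or.inr hdiv⟩
    · obtain ⟨t, ht⟩ := hev
      omega
    · have := Nat.div_mul_le_self f.natDegree 2
      omega
  · obtain ⟨hprod, hdr⟩ := hPD F Z.charpoly f hmonic hc0 hrs hf hfc hself
    refine ⟨f.natDegree, hf1, ?_, Or.inl hd1⟩
    have hr0 : rstar (RingHom.id F) f ≠ 0 := by
      intro h0
      rw [h0, natDegree_zero] at hdr
      omega
    have h2 := Polynomial.natDegree_le_of_dvd hprod hmonic.ne_zero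
    rw [Polynomial.natDegree_mul hf.ne_zero hr0, hdr, hdeg] at h2
    omega

end Cfsg.Agent.Lib.Helper53.PGTORB
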