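import Mathlib
import Cfsg.Agent.Lib.Helper18.ReeOutStmt

/-!
# S2127 / SEMIA: an automorphism stabilizing `U` and `H` induces a semi-equivariant additive map
-/

set_option autoImplicit false

namespace Cfsg.Agent.Lib.Helper53.ReeOutSEMIA

open Cfsg.Agent.Lib.Helper18.ReeOutStmt

universe u v

theorem main : SEMIA.{u, v} := by
  intro G _ K _ _ m φ x e hP α hU hH
  have hφ0 : φ 0 = 0 := map_zero φ
  have xc : ∀ {a b c a' b' c' : K}, a = a' → b = b' → c = c' → x a b c = x a' b' c' := by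
    rintro _ _ _ _ _ _ rfl rfl rfl; rfl
  have x000 : x 0 0 0 = 1 := by
    have h := hP.x_mul 0 0 0 0 0 0
    have h' : x 0 0 0 * x 0 0 0 = x 0 0 0 := by
      rw [h]; apply xc <;> simp
    exact mul_left_cancel (h'.trans (mul_one _).symm)
  have cube : ∀ t u v, x t u v * x t u v * x t u v = x 0 0 (-(t ^ 2 * φ t ^ 3)) := by
    intro t u v
    rw [hP.x_mul, hP.x_mul]
    have h3 := hP.char3
    apply xc
    · linear_combination t * h3
    · linear_combination (u - t * φ t ^ 3) * h3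
    · linear_combination (v - u * t) * h3
  choose F1 F2 F3 hF using hU
  have hA : ∀ u v, F1 0 u v = 0 := by
    intro u v
    have h1 : x 0 u v * x 0 u v * x 0 u v = 1 := by
      rw [cube, ← x000]; apply xc <;> simp
    have h2 := congrArg α h1
    rw [map_mul, map_mul, map_one, hF, cube, ← x000] at h2
    have h3 := (hP.x_inj _ _ _ _ _ _ h2).2.2
    have h4 : F1 0 u v ^ 2 * φ (F1 0 u v) ^ 3 = 0 := neg_eq_zero.1 h3
    rcases mul_eq_zero.1 h4 with h5 | h5
    · exact (pow_eq_zero_iff (by norm_num : (2 : ℕ) ≠ 0)).1 h5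
    · exact (map_eq_zero φ).1 ((pow_eq_zero_iff (by norm_num : (3 : ℕ) ≠ 0)).1 h5)
  have key : ∀ t u v, ∃ u' v', α (x t u v) = x (F1 t 0 0) u' v' := by
    intro t u v
    have hsplit : x t u v = x t 0 0 * x 0 u v := by
      rw [hP.x_mul]; apply xc <;> simp
    rw [hsplit, map_mul, hF t 0 0, hF 0 u v, hA, hP.x_mul, add_zero]
    exact ⟨_, _, rfl⟩
  have hadd : ∀ a b, F1 (a + b) 0 0 = F1 a 0 0 + F1 b 0 0 := by
    intro a b
    have h := hP.x_mul a 0 0 b 0 0
    have h2 := congrArg α h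
    rw [map_mul, hF a 0 0, hF b 0 0, hP.x_mul] at h2
    obtain ⟨u', v', h3⟩ := key (a + b) (0 + 0 - a * φ b ^ 3)
      (0 + 0 - 0 * b - a ^ 2 * φ b ^ 3 + a * b * φ b ^ 3)
    rw [h3] at h2
    exact ((hP.x_inj _ _ _ _ _ _ h2).1).symm
  have hf1 : F1 1 0 0 ≠ 0 := by
    intro h0
    have h1 : α (x 1 0 0) * α (x 1 0 0) * α (x 1 0 0) = 1 := by
      rw [hF 1 0 0, h0, cube, ← x000]; apply xc <;> simp
    rw [← map_mul, ← map_mul, cube] at h1
    have h2 : x 0 0 (-(1 ^ 2 * φ 1 ^ 3)) = x 0 0 0 := by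
      rw [x000]; exact (map_eq_one_iff α α.injective).1 h1
    have h3 := (hP.x_inj _ _ _ _ _ _ h2).2.2
    simp at h3
  have hH' : ∀ s : K, ∃ s', s' ≠ 0 ∧ (s ≠ 0 → α (e s) = e s') := by
    intro s
    by_cases hs : s = 0
    · exact ⟨1, one_ne_zero, fun h => absurd hs h⟩
    · obtain ⟨s', h1, h2⟩ := hH s hs
      exact ⟨s', h1, fun _ => h2⟩
  choose g hg0 hg using hH'
  refine ⟨fun t => F1 t 0 0, g, key, hadd, hf1, fun s _ => hg0 s, ?_⟩
  intro s t hs
  have h := hP.e_x s hs t 0 0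
  have h2 := congrArg α h
  rw [map_mul, map_mul, hg s hs] at h2
  obtain ⟨u', v', h3⟩ := key (s ^ 2 / φ s ^ 3 * t) (φ s ^ 3 / s * 0) (s * 0)
  rw [h3, hF t 0 0, hP.e_x (g s) (hg0 s)] at h2
  have h4 := mul_right_cancel h2
  exact ((hP.x_inj _ _ _ _ _ _ h4).1).symm

end Cfsg.Agent.Lib.Helper53.ReeOutSEMIA
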