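import Mathlib
import Cfsg.Agent.Lib.Helper42.ReeSpStmt2
import Cfsg.Agent.Lib.Helper7.ReeSpORB
import Cfsg.Agent.Lib.Helper7.ReeSpTICount

/-!
S2357 piece CNT3: the numbers of elements of orders 3 and 9.
-/

set_option autoImplicit false

namespace Cfsg.Agent.Lib.Helper53.ReeSpCNT3

open Cfsg.Agent.Lib.Helper42.ReeSpStmt Cfsg.Agent.Lib.Helper42.ReeSpStmt2
open Cfsg.Agent.Lib.Helper7.ReeSpORB

universe u v

/-- elements of order `i` of a subgroup, counted in the group or in the subgroup -/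
theorem card_order_sub {G : Type u} [Group G] (C : Subgroup G) (i : ℕ) :
    Nat.card ↥({s : G | s ∈ C ∧ orderOf s = i} : Set G) = Nat.card {a : C // orderOf a = i} := by
  apply Nat.card_congr
  exact
    { toFun := fun s => ⟨⟨s.1, s.2.1⟩, (Subgroup.orderOf_mk s.1 s.2.1).trans s.2.2⟩
      invFun := fun a => ⟨a.1.1, a.1.2, (Subgroup.orderOf_coe a.1).trans a.2⟩
      left_inv := fun s => rfl
      right_inv := fun a => rfl }

theorem arith1 (q X : ℕ) (hq : 3 ≤ q)
    (h : X * (q ^ 3 * (q - 1)) = q ^ 3 * (q - 1) * (q ^ 3 + 1) * (q ^ 2 - 1)) :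
    X = (q ^ 2 - 1) * (q ^ 3 + 1) := by
  have hpos : 0 < q ^ 3 * (q - 1) := by
    have : 0 < q - 1 := by omega
    positivity
  apply Nat.eq_of_mul_eq_mul_right hpos
  rw [h]; ring

theorem arith2 (q Y : ℕ) (hq : 3 ≤ q)
    (h : (q ^ 3 + 1) * (q ^ 3 - 1) = (q ^ 2 - 1) * (q ^ 3 + 1) + Y) :
    Y = q ^ 2 * (q - 1) * (q ^ 3 + 1) := by
  obtain ⟨a, rfl⟩ : ∃ a, q = a + 1 := ⟨q - 1, by omega⟩
  have e1 : a + 1 - 1 = a := by omega
  have e2 : (a + 1) ^ 2 - 1 = a ^ 2 + 2 * a := by apply Nat.sub_eq_of_eq_add; ring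
  have e3 : (a + 1) ^ 3 - 1 = a ^ 3 + 3 * a ^ 2 + 3 * a := by apply Nat.sub_eq_of_eq_add; ring
  rw [e2, e3] at h
  rw [e1]
  have h' : (a ^ 2 + 2 * a) * ((a + 1) ^ 3 + 1) + Y =
      (a ^ 2 + 2 * a) * ((a + 1) ^ 3 + 1) + (a + 1) ^ 2 * a * ((a + 1) ^ 3 + 1) := by
    rw [← h]; ring
  exact Nat.add_left_cancel h'

theorem main : Cnt3P.{u, v} := by
  intro G _ _ U H A K _ _ m hax hS hC3 hU3
  obtain ⟨hNU, -, hconj⟩ := hS
  have hq3 := three_le_qq m
  -- the TI count
  have hne : ∀ s : G, orderOf s = 3 → s ≠ 1 := by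
    rintro s hs rfl
    rw [orderOf_one] at hs
    omega
  have key := Cfsg.Agent.Lib.Helper7.ReeSpTICount.ti_count
    ({s : G | s ∈ U ∧ orderOf s = 3} : Set G) (Subgroup.normalizer (U : Set G))
    (by
      rintro g hg s ⟨hsU, hs⟩
      exact ⟨(Subgroup.mem_normalizer_iff.mp hg s).mp hsU, (ord_conj g s).trans hs⟩)
    (by
      rintro g s ⟨hsU, hs⟩ ⟨hgs, hgs3⟩
      rw [Subgroup.mem_normalizer_iff]
      intro a
      constructor
      · intro ha
        exact hax.ti g ⟨s, hsU, hne s hs, hgs⟩ a ha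
      · intro hga
        have h1 := hax.ti g⁻¹ ⟨g * s * g⁻¹, hgs, hne _ hgs3, by
          have e : g⁻¹ * (g * s * g⁻¹) * g⁻¹⁻¹ = s := by group
          rw [e]; exact hsU⟩ (g * a * g⁻¹) hga
        have e : g⁻¹ * (g * a * g⁻¹) * g⁻¹⁻¹ = a := by group
        rwa [e] at h1)
  rw [card_order_sub, hU3, hNU, hax.card] at key
  have hset : Nat.card {y : G // ∃ x : G, x * y * x⁻¹ ∈ ({s : G | s ∈ U ∧ orderOf s = 3} : Set G)} =
      Nat.card {g : G // orderOf g = 3} := by
    apply Nat.card_congr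
    apply Equiv.subtypeEquivRight
    intro y
    constructor
    · rintro ⟨x, -, hx⟩
      exact (ord_conj x y).symm.trans hx
    · intro hy
      obtain ⟨x, hx⟩ := hconj y ⟨1, by rw [pow_one, ← hy]; exact pow_orderOf_eq_one y⟩
      exact ⟨x, hx, (ord_conj x y).trans hy⟩
  rw [hset] at key
  have h3 : Nat.card {g : G // orderOf g = 3} = (qq m ^ 2 - 1) * (qq m ^ 3 + 1) :=
    arith1 (qq m) _ hq3 key
  refine ⟨h3, ?_⟩
  -- order 9
  have hunion : ({g : G | g ≠ 1 ∧ g ^ 9 = 1} : Set G) =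
      {g : G | orderOf g = 3} ∪ {g : G | orderOf g = 9} := by
    ext g
    simp only [Set.mem_setOf_eq, Set.mem_union]
    constructor
    · rintro ⟨hg1, hg9⟩
      have hd : orderOf g ∣ 3 ^ 2 := by
        have := orderOf_dvd_of_pow_eq_one hg9
        norm_num
        exact this
      obtain ⟨k, hk, hk'⟩ := (Nat.dvd_prime_pow Nat.prime_three).mp hd
      interval_cases k
      · exfalso
        apply hg1
        rw [pow_zero] at hk'
        exact orderOf_eq_one_iff.mp hk'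
      · left; rw [hk']; norm_num
      · right; rw [hk']; norm_num
    · rintro (h | h)
      · refine ⟨hne g h, ?_⟩
        have : g ^ 3 = 1 := by rw [← h]; exact pow_orderOf_eq_one g
        calc g ^ 9 = (g ^ 3) ^ 3 := by rw [← pow_mul]
          _ = 1 := by rw [this, one_pow]
      · refine ⟨?_, by rw [← h]; exact pow_orderOf_eq_one g⟩
        rintro rfl
        rw [orderOf_one] at h
        omega
  have hdisj : Disjoint ({g : G | orderOf g = 3} : Set G) {g : G | orderOf g = 9} := by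
    rw [Set.disjoint_left]
    intro g h1 h2
    simp only [Set.mem_setOf_eq] at h1 h2
    omega
  have hsum : Nat.card {g : G // g ≠ 1 ∧ g ^ 9 = 1} =
      Nat.card {g : G // orderOf g = 3} + Nat.card {g : G // orderOf g = 9} := by
    have e1 : Nat.card {g : G // g ≠ 1 ∧ g ^ 9 = 1} =
        Set.ncard ({g : G | g ≠ 1 ∧ g ^ 9 = 1} : Set G) := Nat.card_coe_set_eq _
    have e2 : Nat.card {g : G // orderOf g = 3} = Set.ncard ({g : G | orderOf g = 3} : Set G) :=
      Nat.card_coe_set_eq _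
    have e3 : Nat.card {g : G // orderOf g = 9} = Set.ncard ({g : G | orderOf g = 9} : Set G) :=
      Nat.card_coe_set_eq _
    rw [e1, e2, e3, hunion]
    exact Set.ncard_union_eq hdisj (Set.toFinite _) (Set.toFinite _)
  have hC3' : Nat.card {g : G // g ≠ 1 ∧ g ^ 9 = 1} = (qq m ^ 3 + 1) * (qq m ^ 3 - 1) := hC3
  rw [hsum, h3] at hC3'
  exact arith2 (qq m) _ hq3 hC3'.symm

end Cfsg.Agent.Lib.Helper53.ReeSpCNT3
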