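import Mathlib
import Cfsg.Agent.Lib.Helper42.ReeSpStmt2
import Cfsg.Agent.Lib.Helper7.ReeSpORB
import Cfsg.Agent.Lib.Helper7.ReeSpTICount
import Cfsg.Agent.Lib.Helper7.RHCONJT

/-!
S2357 piece CNTF: the number of elements of order `i ∣ q ∓ r + 1`.
-/

set_option autoImplicit false

namespace Cfsg.Agent.Lib.Helper53.ReeSpCNTF

open Cfsg.Agent.Lib.Helper42.ReeSpStmt Cfsg.Agent.Lib.Helper42.ReeSpStmt2
open Cfsg.Agent.Lib.Helper7.ReeSpORB Cfsg.Agent.Lib.Helper7.RHCONJT

universe u v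

/-- if `C(y) = C` for all `y ≠ 1` in `C`, an element conjugating some `y ≠ 1` of `C` into `C`
normalizes `C` -/
theorem mem_norm_of_conj {G : Type u} [Group G] (C : Subgroup G)
    (hcent : ∀ y ∈ C, y ≠ 1 → Subgroup.centralizer ({y} : Set G) = C)
    (g y : G) (hy : y ∈ C) (hy1 : y ≠ 1) (hgy : g * y * g⁻¹ ∈ C) :
    g ∈ Subgroup.normalizer (C : Set G) := by
  rw [Subgroup.mem_normalizer_iff]
  intro a
  have hgy1 : g * y * g⁻¹ ≠ 1 := by
    intro h1
    apply hy1
    calc y = g⁻¹ * (g * y * g⁻¹) * g := by group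
      _ = 1 := by rw [h1]; group
  have e1 : a ∈ C ↔ a ∈ Subgroup.centralizer ({y} : Set G) := by
    rw [hcent y hy hy1]
  have e2 : g * a * g⁻¹ ∈ C ↔
      g * a * g⁻¹ ∈ Subgroup.centralizer ({g * y * g⁻¹} : Set G) := by
    rw [hcent _ hgy hgy1]
  rw [e1, e2, mem_cent_conj]
  have e3 : g⁻¹ * (g * a * g⁻¹) * g = a := by group
  rw [e3]

/-- the number of elements of order `i` of a cyclic subgroup -/
theorem card_order_in_cyc {G : Type u} [Group G] [Finite G] (C : Subgroup G) (hcyc : IsCyclic C)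
    (i : ℕ) (hdvd : i ∣ Nat.card C) :
    Nat.card ↥({s : G | s ∈ C ∧ orderOf s = i} : Set G) = Nat.totient i := by
  classical
  have : Fintype C := Fintype.ofFinite C
  have h1 : Nat.card {a : C // orderOf a = i} = Nat.totient i := by
    rw [Nat.card_eq_fintype_card, Fintype.card_subtype]
    exact IsCyclic.card_orderOf_eq_totient (by rw [← Nat.card_eq_fintype_card]; exact hdvd)
  rw [← h1]
  apply Nat.card_congr
  exact
    { toFun := fun s => ⟨⟨s.1, s.2.1⟩, (Subgroup.orderOf_mk s.1 s.2.1).trans s.2.2⟩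
      invFun := fun a => ⟨a.1.1, a.1.2, (Subgroup.orderOf_coe a.1).trans a.2⟩
      left_inv := fun s => rfl
      right_inv := fun a => rfl }

/-- TI count for the elements of order `i` of a cyclic self-centralizing subgroup -/
theorem cnt_cyc {G : Type u} [Group G] [Finite G] (C : Subgroup G) (hcyc : IsCyclic C)
    (hcent : ∀ y ∈ C, y ≠ 1 → Subgroup.centralizer ({y} : Set G) = C)
    (i : ℕ) (hi : 1 < i) (hdvd : i ∣ Nat.card C)
    (hconj : ∀ g : G, orderOf g = i → ∃ x : G, x * g * x⁻¹ ∈ C) :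
    Nat.card {g : G // orderOf g = i} * Nat.card (Subgroup.normalizer (C : Set G)) =
      Nat.card G * Nat.totient i := by
  have hne : ∀ s : G, orderOf s = i → s ≠ 1 := by
    rintro s hs rfl
    rw [orderOf_one] at hs
    omega
  have key := Cfsg.Agent.Lib.Helper7.ReeSpTICount.ti_count
    ({s : G | s ∈ C ∧ orderOf s = i} : Set G) (Subgroup.normalizer (C : Set G))
    (by
      rintro g hg s ⟨hsC, hs⟩
      exact ⟨(Subgroup.mem_normalizer_iff.mp hg s).mp hsC, (ord_conj g s).trans hs⟩)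
    (by
      rintro g s ⟨hsC, hs⟩ ⟨hgs, -⟩
      exact mem_norm_of_conj C hcent g s hsC (hne s hs) hgs)
  rw [card_order_in_cyc C hcyc i hdvd] at key
  rw [← key]
  congr 1
  apply Nat.card_congr
  apply Equiv.subtypeEquivRight
  intro y
  constructor
  · intro hy
    obtain ⟨x, hx⟩ := hconj y hy
    exact ⟨x, hx, (ord_conj x y).trans hy⟩
  · rintro ⟨x, -, hx⟩
    exact (ord_conj x y).symm.trans hx

theorem card_split (m : ℕ) :
    qq m ^ 3 * (qq m - 1) * (qq m ^ 3 + 1) =
      qq m ^ 3 * (qq m ^ 2 - 1) * ((qq m + rr m + 1) * (qq m - rr m + 1)) := by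
  rw [tor_mul]
  have hq3 := three_le_qq m
  obtain ⟨a, ha⟩ : ∃ a, qq m = a + 1 := ⟨qq m - 1, by omega⟩
  rw [ha]
  have e1 : a + 1 - 1 = a := by omega
  have e2 : (a + 1) ^ 2 - 1 = a ^ 2 + 2 * a := by apply Nat.sub_eq_of_eq_add; ring
  have e3 : (a + 1) ^ 2 - (a + 1) = a ^ 2 + a := by apply Nat.sub_eq_of_eq_add; ring
  rw [e1, e2, e3]; ring

theorem main : CntFP.{u, v} := by
  intro G _ _ U H A K _ _ m hax hF
  obtain ⟨C₁, C₂, hc1, hc2, hcard1, hcard2, hN1, hN2, hcent1, hcent2, hcov⟩ := hF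
  have hmul := tor_mul m
  have hcop := tor_coprime m
  have hle := rr_le_qq m
  have hcardG : Nat.card G =
      qq m ^ 3 * (qq m ^ 2 - 1) * ((qq m + rr m + 1) * (qq m - rr m + 1)) := by
    rw [hax.card, card_split]
  have hP3 : ∀ (i : ℕ), 1 < i → i ∣ qq m ^ 2 - qq m + 1 → ∀ g : G, orderOf g = i → P3 G m g := by
    intro i hi hdvd g hg
    refine ⟨?_, ?_⟩
    · rintro rfl
      rw [orderOf_one] at hg
      omega
    · rw [hg]
      exact Nat.Coprime.coprime_dvd_left hdvd (coprime_Q m)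
  constructor
  · intro i hi hdvd
    have hconj : ∀ g : G, orderOf g = i → ∃ x : G, x * g * x⁻¹ ∈ C₂ := by
      intro g hg
      obtain ⟨x, hx | hx⟩ := hcov g (hP3 i hi (hdvd.trans (Dvd.intro_left _ hmul)) g hg)
      · exfalso
        have h1 : orderOf (x * g * x⁻¹) ∣ Nat.card C₁ := by
          have := orderOf_dvd_natCard (⟨x * g * x⁻¹, hx⟩ : C₁)
          rwa [Subgroup.orderOf_mk] at this
        rw [ord_conj, hg, hcard1] at h1
        have h2 := Nat.dvd_gcd h1 hdvd
        rw [hcop.gcd_eq_one] at h2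
        have := Nat.dvd_one.mp h2
        omega
      · exact ⟨x, hx⟩
    have key := cnt_cyc C₂ hc2 hcent2 i hi (by rw [hcard2]; exact hdvd) hconj
    rw [hN2, hcardG] at key
    have hpos : 0 < qq m - rr m + 1 := by omega
    apply Nat.eq_of_mul_eq_mul_right hpos
    calc 6 * Nat.card {g : G // orderOf g = i} * (qq m - rr m + 1)
        = Nat.card {g : G // orderOf g = i} * (6 * (qq m - rr m + 1)) := by ring
      _ = qq m ^ 3 * (qq m ^ 2 - 1) * ((qq m + rr m + 1) * (qq m - rr m + 1)) *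
            Nat.totient i := key
      _ = Nat.totient i * qq m ^ 3 * (qq m ^ 2 - 1) * (qq m + rr m + 1) *
            (qq m - rr m + 1) := by ring
  · intro i hi hdvd
    have hconj : ∀ g : G, orderOf g = i → ∃ x : G, x * g * x⁻¹ ∈ C₁ := by
      intro g hg
      obtain ⟨x, hx | hx⟩ := hcov g (hP3 i hi (hdvd.trans (Dvd.intro _ hmul)) g hg)
      · exact ⟨x, hx⟩
      · exfalso
        have h1 : orderOf (x * g * x⁻¹) ∣ Nat.card C₂ := by
          have := orderOf_dvd_natCard (⟨x * g * x⁻¹, hx⟩ : C₂)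
          rwa [Subgroup.orderOf_mk] at this
        rw [ord_conj, hg, hcard2] at h1
        have h2 := Nat.dvd_gcd hdvd h1
        rw [hcop.gcd_eq_one] at h2
        have := Nat.dvd_one.mp h2
        omega
    have key := cnt_cyc C₁ hc1 hcent1 i hi (by rw [hcard1]; exact hdvd) hconj
    rw [hN1, hcardG] at key
    have hpos : 0 < qq m + rr m + 1 := by omega
    apply Nat.eq_of_mul_eq_mul_right hpos
    calc 6 * Nat.card {g : G // orderOf g = i} * (qq m + rr m + 1)
        = Nat.card {g : G // orderOf g = i} * (6 * (qq m + rr m + 1)) := by ring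
      _ = qq m ^ 3 * (qq m ^ 2 - 1) * ((qq m + rr m + 1) * (qq m - rr m + 1)) *
            Nat.totient i := key
      _ = Nat.totient i * qq m ^ 3 * (qq m ^ 2 - 1) * (qq m - rr m + 1) *
            (qq m + rr m + 1) := by ring

end Cfsg.Agent.Lib.Helper53.ReeSpCNTF
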