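import Mathlib
import Cfsg.Agent.Lib.Helper42.ReeSpStmt2
import Cfsg.Agent.Lib.Helper7.ReeSpORB

/-!
S1158 piece NRMF: the normalizers of the nontrivial subgroups of the two cyclic Hall subgroups.
-/

set_option autoImplicit false

namespace Cfsg.Agent.Lib.Helper53.ReeSpNRMF

open Cfsg.Agent.Lib.Helper42.ReeSpStmt Cfsg.Agent.Lib.Helper42.ReeSpStmt2
open Cfsg.Agent.Lib.Helper7.ReeSpORB

universe u

/-- a cyclic `C` with `C(y) = C` for all `y ≠ 1` in `C`: every nontrivial subgroup of `C` has the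
same normalizer as `C` -/
theorem norm_sub {G : Type u} [Group G] [Finite G] (C : Subgroup G) (hcyc : IsCyclic C)
    (hcent : ∀ y ∈ C, y ≠ 1 → Subgroup.centralizer ({y} : Set G) = C)
    (A₀ : Subgroup G) (hle : A₀ ≤ C) (hne : A₀ ≠ ⊥) :
    Subgroup.normalizer (A₀ : Set G) = Subgroup.normalizer (C : Set G) := by
  obtain ⟨y, hy, hy1⟩ : ∃ y ∈ A₀, y ≠ 1 := by
    by_contra hcon
    push Not at hcon
    exact hne ((Subgroup.eq_bot_iff_forall _).mpr hcon)
  ext g
  rw [Subgroup.mem_normalizer_iff, Subgroup.mem_normalizer_iff]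
  constructor
  · intro hg a
    have hgy : g * y * g⁻¹ ∈ A₀ := (hg y).mp hy
    have hgy1 : g * y * g⁻¹ ≠ 1 := by
      intro h1
      apply hy1
      calc y = g⁻¹ * (g * y * g⁻¹) * g := by group
        _ = 1 := by rw [h1]; group
    have e1 : a ∈ C ↔ a ∈ Subgroup.centralizer ({y} : Set G) := by
      rw [hcent y (hle hy) hy1]
    have e2 : g * a * g⁻¹ ∈ C ↔
        g * a * g⁻¹ ∈ Subgroup.centralizer ({g * y * g⁻¹} : Set G) := by
      rw [hcent _ (hle hgy) hgy1]
    rw [e1, e2, mem_cent_conj]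
    have e3 : g⁻¹ * (g * a * g⁻¹) * g = a := by group
    rw [e3]
  · intro hg a
    constructor
    · intro ha
      have haC : a ∈ C := hle ha
      have hgaC : g * a * g⁻¹ ∈ C := (hg a).mp haC
      have h1 := mem_zpowers_sub C hcyc haC hgaC (ord_conj g a)
      exact (Subgroup.zpowers_le.mpr ha) h1
    · intro hga
      have hgaC : g * a * g⁻¹ ∈ C := hle hga
      have haC : a ∈ C := (hg a).mpr hgaC
      have h1 := mem_zpowers_sub C hcyc hgaC haC (ord_conj g a).symm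
      exact (Subgroup.zpowers_le.mpr hga) h1

theorem main : NormFP.{u} := by
  intro G _ _ m h
  obtain ⟨C₁, C₂, hc1, hc2, hcard1, hcard2, hN1, hN2, hcent1, hcent2, -⟩ := h
  exact ⟨⟨C₂, hc2, hcard2, hN2, fun A₀ hle hne => norm_sub C₂ hc2 hcent2 A₀ hle hne⟩,
    ⟨C₁, hc1, hcard1, hN1, fun A₀ hle hne => norm_sub C₁ hc1 hcent1 A₀ hle hne⟩⟩

end Cfsg.Agent.Lib.Helper53.ReeSpNRMF
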