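import Mathlib
import Cfsg.Agent.Lib.Helper45.S8Stmt

/-!
# S3589 pieces P2 and P4 (helper45's call): coordinate permutations of order 2 and 4 preserving
the hyperbolic forms `H` and `H²`.
-/

set_option autoImplicit false

namespace Cfsg.Agent.Lib.Helper53.S8P4

open Cfsg.Agent.Lib.Helper45.S8Stmt

universe u

theorem permMatrix_pow {F : Type u} [Field F] {ι : Type} [Fintype ι] [DecidableEq ι]
    (σ : Equiv.Perm ι) (k : ℕ) :
    Equiv.Perm.permMatrix F (σ ^ k) = (Equiv.Perm.permMatrix F σ) ^ k := by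
  induction k with
  | zero => rw [pow_zero, pow_zero, Matrix.permMatrix_one]
  | succ k ih => rw [pow_succ, Matrix.permMatrix_mul, ih, pow_succ']

theorem permMatrix_eq_one {F : Type u} [Field F] {ι : Type} [Fintype ι] [DecidableEq ι]
    (σ : Equiv.Perm ι) (h : Equiv.Perm.permMatrix F σ = 1) : σ = 1 := by
  ext i
  rw [Equiv.Perm.one_apply]
  have h1 : Matrix.mulVec (Equiv.Perm.permMatrix F σ) (Pi.single i (1 : F)) =
      Pi.single i (1 : F) ∘ σ :=
    Matrix.permMatrix_mulVec σ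
  rw [h, Matrix.one_mulVec] at h1
  have h2 := congrFun h1 i
  simp only [Function.comp_apply, Pi.single_eq_same] at h2
  by_contra hne
  rw [Pi.single_eq_of_ne hne] at h2
  exact one_ne_zero h2

/-- A coordinate permutation preserving `Q`, of order `p ^ (n + 1)`. -/
theorem hasOrd_perm {F : Type u} [Field F] {ι : Type} [Fintype ι] [DecidableEq ι]
    (Q : (ι → F) → F) (σ : Equiv.Perm ι) (hQ : ∀ u, Q (u ∘ σ) = Q u) (p n : ℕ)
    [hp : Fact p.Prime] (h1 : σ ^ p ^ (n + 1) = 1) (h2 : σ ^ p ^ n ≠ 1) :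
    HasOrd Q (p ^ (n + 1)) := by
  have hinv1 : Equiv.Perm.permMatrix F σ * Equiv.Perm.permMatrix F σ⁻¹ = 1 := by
    rw [← Matrix.permMatrix_mul, inv_mul_cancel, Matrix.permMatrix_one]
  have hinv2 : Equiv.Perm.permMatrix F σ⁻¹ * Equiv.Perm.permMatrix F σ = 1 := by
    rw [← Matrix.permMatrix_mul, mul_inv_cancel, Matrix.permMatrix_one]
  let g : GL ι F := ⟨Equiv.Perm.permMatrix F σ, Equiv.Perm.permMatrix F σ⁻¹, hinv1, hinv2⟩
  have hg : g ∈ Cfsg.isometryGroup F Q := by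
    intro u v
    show Q (Matrix.mulVec (Equiv.Perm.permMatrix F σ) u) = Q u
    rw [Matrix.permMatrix_mulVec]
    exact hQ u
  have hpow : ∀ k : ℕ, (((⟨g, hg⟩ : ↥(Cfsg.isometryGroup F Q)) ^ k).1 : Matrix ι ι F) =
      Equiv.Perm.permMatrix F (σ ^ k) := by
    intro k
    rw [permMatrix_pow]
    simp [g]
  refine ⟨⟨g, hg⟩, ?_⟩
  apply orderOf_eq_prime_pow
  · intro h
    apply h2
    apply permMatrix_eq_one (F := F)
    rw [← hpow, h]
    rfl
  · apply Subtype.ext
    apply Units.ext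
    rw [hpow, h1, Matrix.permMatrix_one]
    rfl

/-- the 4-cycle `x₁ → y₂ → y₁ → x₂ → x₁` of the coordinates of `H²` -/
def sig4 : Equiv.Perm (Fin 2 ⊕ Fin 2) :=
  Equiv.swap (Sum.inl 0) (Sum.inr 1) * Equiv.swap (Sum.inr 1) (Sum.inr 0) *
    Equiv.swap (Sum.inr 0) (Sum.inl 1)

theorem main : P4.{u} := by
  intro F _
  have : Fact (Nat.Prime 2) := ⟨Nat.prime_two⟩
  have h := hasOrd_perm (F := F) (Cfsg.quadFormPlus 2 F) sig4 (by
    intro u
    have e1 : sig4 (Sum.inl 0) = Sum.inr 1 := by decide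
    have e2 : sig4 (Sum.inr 0) = Sum.inl 1 := by decide
    have e3 : sig4 (Sum.inl 1) = Sum.inl 0 := by decide
    have e4 : sig4 (Sum.inr 1) = Sum.inr 0 := by decide
    unfold Cfsg.quadFormPlus
    rw [Fin.sum_univ_two, Fin.sum_univ_two]
    simp only [Function.comp_apply, e1, e2, e3, e4]
    ring) 2 1 (by decide) (by decide)
  exact h

/-- the swap `x ↔ y` of the coordinates of `H` -/
def sig2 : Equiv.Perm (Fin 1 ⊕ Fin 1) := Equiv.swap (Sum.inl 0) (Sum.inr 0)

theorem mainP2 : P2.{u} := by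
  intro F _
  have : Fact (Nat.Prime 2) := ⟨Nat.prime_two⟩
  have h := hasOrd_perm (F := F) (Cfsg.quadFormPlus 1 F) sig2 (by
    intro u
    have e1 : sig2 (Sum.inl 0) = Sum.inr 0 := by decide
    have e2 : sig2 (Sum.inr 0) = Sum.inl 0 := by decide
    unfold Cfsg.quadFormPlus
    rw [Fin.sum_univ_one, Fin.sum_univ_one]
    simp only [Function.comp_apply, e1, e2]
    ring) 2 0 (by decide) (by decide)
  exact h

end Cfsg.Agent.Lib.Helper53.S8P4
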