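import Mathlib
import Cfsg.Agent.Lib.Helper45.S8Stmt
import Cfsg.Agent.Lib.Helper53.S8P4

/-!
# S3589 piece P2 (helper45's call): the swap `(x, y) ↦ (y, x)` of `H` has order 2.
-/

set_option autoImplicit false

namespace Cfsg.Agent.Lib.Helper53.S8P2

open Cfsg.Agent.Lib.Helper45.S8Stmt

universe u

theorem main : P2.{u} := Cfsg.Agent.Lib.Helper53.S8P4.mainP2

end Cfsg.Agent.Lib.Helper53.S8P2
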