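import Mathlib
import Cfsg.Agent.Lib.Helper53.SL2Inv
import Cfsg.Agent.S2540

set_option autoImplicit false

namespace Cfsg.Agent.Lib.Helper53.SL2Normal

open Matrix Cfsg.Agent.Lib.Helper53.SL2Inv

variable {F : Type*} [Field F]

/-- upper unitriangular element -/
def Up : SpecialLinearGroup (Fin 2) F := ⟨!![1, 1; 0, 1], by simp [Matrix.det_fin_two]⟩

/-- lower unitriangular element -/
def Lo : SpecialLinearGroup (Fin 2) F := ⟨!![1, 0; 1, 1], by simp [Matrix.det_fin_two]⟩

theorem Up_entries : (Up : SpecialLinearGroup (Fin 2) F) 0 0 = 1 ∧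
    (Up : SpecialLinearGroup (Fin 2) F) 0 1 = 1 ∧ (Up : SpecialLinearGroup (Fin 2) F) 1 0 = 0 ∧
    (Up : SpecialLinearGroup (Fin 2) F) 1 1 = 1 := by
  simp [Up]

theorem Lo_entries : (Lo : SpecialLinearGroup (Fin 2) F) 0 0 = 1 ∧
    (Lo : SpecialLinearGroup (Fin 2) F) 0 1 = 0 ∧ (Lo : SpecialLinearGroup (Fin 2) F) 1 0 = 1 ∧
    (Lo : SpecialLinearGroup (Fin 2) F) 1 1 = 1 := by
  simp [Lo]

/-- `PSL₂` has trivial centre: an element commuting with everything modulo `±1` is `±1`. -/
theorem central_of_comm (h2 : (2 : F) ≠ 0) (g : SpecialLinearGroup (Fin 2) F)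
    (h : ∀ x : SpecialLinearGroup (Fin 2) F, g * x * g⁻¹ * x⁻¹ = 1 ∨ g * x * g⁻¹ * x⁻¹ = negOne) :
    g = 1 ∨ g = negOne := by
  obtain ⟨n00, n01, n10, n11⟩ := negOne_entries (F := F)
  obtain ⟨o00, o01, o10, o11⟩ := one_entries (F := F)
  obtain ⟨u00, u01, u10, u11⟩ := Up_entries (F := F)
  obtain ⟨l00, l01, l10, l11⟩ := Lo_entries (F := F)
  have hdet := det_entries g
  have key : ∀ x : SpecialLinearGroup (Fin 2) F, g * x = x * g ∨ g * x = negOne * (x * g) := by
    intro x
    rcases h x with h1 | h1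
    · left
      calc g * x = (g * x * g⁻¹ * x⁻¹) * (x * g) := by group
        _ = x * g := by rw [h1, one_mul]
    · right
      calc g * x = (g * x * g⁻¹ * x⁻¹) * (x * g) := by group
        _ = negOne * (x * g) := by rw [h1]
  -- commute with Up
  have hU : g 1 0 = 0 ∧ g 0 0 = g 1 1 := by
    obtain ⟨a00, a01, a10, a11⟩ := mul_entries g (Up : SpecialLinearGroup (Fin 2) F)
    obtain ⟨b00, b01, b10, b11⟩ := mul_entries (Up : SpecialLinearGroup (Fin 2) F) g
    rcases key Up with h1 | h1
    · rw [h1] at a00 a01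
      rw [b00, u00, u01, u10] at a00
      rw [b01, u00, u01, u11] at a01
      constructor
      · linear_combination a00
      · linear_combination (-1 : F) * a01
    · exfalso
      obtain ⟨c00, c01, c10, c11⟩ := mul_entries (negOne : SpecialLinearGroup (Fin 2) F) (Up * g)
      rw [h1] at a00 a10
      rw [c00, n00, n01, b00, b10, u00, u01, u10, u11] at a00
      rw [c10, n10, n11, b00, b10, u00, u01, u10, u11] at a10
      have hc : g 1 0 = 0 := by
        have h3 : (2 : F) * g 1 0 = 0 := by linear_combination (-1 : F) * a10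
        rcases mul_eq_zero.mp h3 with h4 | h4
        · exact absurd h4 h2
        · exact h4
      have ha : g 0 0 = 0 := by
        have h3 : (2 : F) * g 0 0 = 0 := by rw [hc] at a00; linear_combination (-1 : F) * a00
        rcases mul_eq_zero.mp h3 with h4 | h4
        · exact absurd h4 h2
        · exact h4
      rw [ha, hc] at hdet
      simp at hdet
  -- commute with Lo
  have hL : g 0 1 = 0 := by
    obtain ⟨a00, a01, a10, a11⟩ := mul_entries g (Lo : SpecialLinearGroup (Fin 2) F)
    obtain ⟨b00, b01, b10, b11⟩ := mul_entries (Lo : SpecialLinearGroup (Fin 2) F) g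
    rcases key Lo with h1 | h1
    · rw [h1] at a00
      rw [b00, l00, l01, l10] at a00
      linear_combination (-1 : F) * a00
    · exfalso
      obtain ⟨c00, c01, c10, c11⟩ := mul_entries (negOne : SpecialLinearGroup (Fin 2) F) (Lo * g)
      rw [h1] at a00 a01
      rw [c00, n00, n01, b00, b10, l00, l01, l10, l11] at a00
      rw [c01, n00, n01, b01, b11, l00, l01, l10, l11] at a01
      have hb : g 0 1 = 0 := by
        have h3 : (2 : F) * g 0 1 = 0 := by linear_combination (-1 : F) * a01
        rcases mul_eq_zero.mp h3 with h4 | h4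
        · exact absurd h4 h2
        · exact h4
      have ha : g 0 0 = 0 := by
        have h3 : (2 : F) * g 0 0 = 0 := by rw [hb] at a00; linear_combination (-1 : F) * a00
        rcases mul_eq_zero.mp h3 with h4 | h4
        · exact absurd h4 h2
        · exact h4
      rw [ha, hb] at hdet
      simp at hdet
  obtain ⟨hc, had⟩ := hU
  have ha2 : (g 0 0 - 1) * (g 0 0 + 1) = 0 := by
    rw [hL, ← had] at hdet
    linear_combination hdet
  rcases mul_eq_zero.mp ha2 with h3 | h3
  · left
    have ha1 : g 0 0 = 1 := by linear_combination h3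
    apply ext2
    · rw [o00, ha1]
    · rw [o01, hL]
    · rw [o10, hc]
    · rw [o11, ← had, ha1]
  · right
    have ha1 : g 0 0 = -1 := by linear_combination h3
    apply ext2
    · rw [n00, ha1]
    · rw [n01, hL]
    · rw [n10, hc]
    · rw [n11, ← had, ha1]

/-- an element of trace zero squares to `-1` -/
theorem sq_of_trace_zero (X : SpecialLinearGroup (Fin 2) F) (h : X 0 0 + X 1 1 = 0) :
    X * X = negOne := by
  obtain ⟨m00, m01, m10, m11⟩ := mul_entries X X
  obtain ⟨n00, n01, n10, n11⟩ := negOne_entries (F := F)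
  have hdet := det_entries X
  apply ext2
  · rw [m00, n00]; linear_combination (X 0 0) * h - hdet
  · rw [m01, n01]; linear_combination (X 0 1) * h
  · rw [m10, n10]; linear_combination (X 1 0) * h
  · rw [m11, n11]; linear_combination (X 1 1) * h - hdet

theorem W_ne_one : (W : SpecialLinearGroup (Fin 2) F) ≠ 1 := by
  intro h
  have h1 : (W : SpecialLinearGroup (Fin 2) F) 0 0 = (1 : SpecialLinearGroup (Fin 2) F) 0 0 := by
    rw [h]
  rw [W_entries.1, one_entries.1] at h1
  exact zero_ne_one h1

theorem W_ne_negOne : (W : SpecialLinearGroup (Fin 2) F) ≠ negOne := by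
  intro h
  have h1 : (W : SpecialLinearGroup (Fin 2) F) 0 0 = (negOne : SpecialLinearGroup (Fin 2) F) 0 0 := by
    rw [h]
  rw [W_entries.1, negOne_entries.1] at h1
  have : (1 : F) = 0 := by linear_combination h1
  exact one_ne_zero this

/-- trace of a commutator in terms of entries -/
theorem comm_trace (g x : SpecialLinearGroup (Fin 2) F) :
    (g * x * g⁻¹ * x⁻¹) 0 0 + (g * x * g⁻¹ * x⁻¹) 1 1 =
      (g 0 0 * x 0 0 + g 0 1 * x 1 0) * (g 1 1 * x 1 1 + g 0 1 * x 1 0) +
      (g 0 0 * x 0 1 + g 0 1 * x 1 1) * (-(g 1 0 * x 1 1) - g 0 0 * x 1 0) +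
      (g 1 0 * x 0 0 + g 1 1 * x 1 0) * (-(g 1 1 * x 0 1) - g 0 1 * x 0 0) +
      (g 1 0 * x 0 1 + g 1 1 * x 1 1) * (g 1 0 * x 0 1 + g 0 0 * x 0 0) := by
  simp only [Matrix.SpecialLinearGroup.coe_mul, Matrix.SpecialLinearGroup.coe_inv,
    Matrix.adjugate_fin_two, Matrix.mul_apply, Fin.sum_univ_two, Matrix.of_apply,
    Matrix.cons_val', Matrix.cons_val_zero, Matrix.cons_val_one, Matrix.cons_val_fin_one]
  ring

set_option maxRecDepth 100000 in
theorem zmod3_search : ∀ p q r s : ZMod 3, p * s - q * r = 1 →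
    ¬ (p = 1 ∧ q = 0 ∧ r = 0 ∧ s = 1) → ¬ (p = -1 ∧ q = 0 ∧ r = 0 ∧ s = -1) →
    p + s = 0 ∨ ∃ a b c d : ZMod 3, a * d - b * c = 1 ∧
      (p * a + q * c) * (s * d + q * c) + (p * b + q * d) * (-(r * d) - p * c) +
      (r * a + s * c) * (-(s * b) - q * a) + (r * b + s * d) * (r * b + p * a) = 0 := by
  decide +kernel


/-- a normal subgroup of `SL₂(F)`, `|F|` odd, containing a non-central element contains `W` -/
theorem W_mem_normal [Fintype F] (hF : Odd (Fintype.card F))
    (N : Subgroup (SpecialLinearGroup (Fin 2) F)) [hN : N.Normal]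
    (g : SpecialLinearGroup (Fin 2) F) (hg : g ∈ N) (hg1 : g ≠ 1) (hg2 : g ≠ negOne) :
    (W : SpecialLinearGroup (Fin 2) F) ∈ N := by
  obtain ⟨n00, n01, n10, n11⟩ := negOne_entries (F := F)
  obtain ⟨o00, o01, o10, o11⟩ := one_entries (F := F)
  have hdet := det_entries g
  have hfin : ∀ X : SpecialLinearGroup (Fin 2) F, X ∈ N → X 0 0 + X 1 1 = 0 →
      (W : SpecialLinearGroup (Fin 2) F) ∈ N := by
    intro X hX htr
    obtain ⟨k, hk⟩ := conj_W_of_sq hF X (sq_of_trace_zero X htr)
    rw [← hk]; exact hN.conj_mem X hX k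
  by_cases h3 : Fintype.card F = 3
  · obtain ⟨e⟩ : Nonempty (ZMod 3 ≃+* F) := ⟨ZMod.ringEquivOfPrime F Nat.prime_three h3⟩
    have hne1 : ¬ (e.symm (g 0 0) = 1 ∧ e.symm (g 0 1) = 0 ∧ e.symm (g 1 0) = 0 ∧
        e.symm (g 1 1) = 1) := by
      rintro ⟨a1, a2, a3, a4⟩
      apply hg1
      have b1 : g 0 0 = 1 := by simpa using congrArg e a1
      have b2 : g 0 1 = 0 := by simpa using congrArg e a2
      have b3 : g 1 0 = 0 := by simpa using congrArg e a3
      have b4 : g 1 1 = 1 := by simpa using congrArg e a4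
      apply ext2
      · rw [o00, b1]
      · rw [o01, b2]
      · rw [o10, b3]
      · rw [o11, b4]
    have hne2 : ¬ (e.symm (g 0 0) = -1 ∧ e.symm (g 0 1) = 0 ∧ e.symm (g 1 0) = 0 ∧
        e.symm (g 1 1) = -1) := by
      rintro ⟨a1, a2, a3, a4⟩
      apply hg2
      have b1 : g 0 0 = -1 := by simpa using congrArg e a1
      have b2 : g 0 1 = 0 := by simpa using congrArg e a2
      have b3 : g 1 0 = 0 := by simpa using congrArg e a3
      have b4 : g 1 1 = -1 := by simpa using congrArg e a4
      apply ext2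
      · rw [n00, b1]
      · rw [n01, b2]
      · rw [n10, b3]
      · rw [n11, b4]
    rcases zmod3_search (e.symm (g 0 0)) (e.symm (g 0 1)) (e.symm (g 1 0)) (e.symm (g 1 1))
      (by simpa using congrArg e.symm hdet) hne1 hne2 with htr | ⟨a, b, c, d, hdet', hT⟩
    · exact hfin g hg (by simpa using congrArg e htr)
    · have hdetx : e a * e d - e b * e c = 1 := by simpa using congrArg e hdet'
      obtain ⟨x, hx00, hx01, hx10, hx11⟩ : ∃ x : SpecialLinearGroup (Fin 2) F,
          x 0 0 = e a ∧ x 0 1 = e b ∧ x 1 0 = e c ∧ x 1 1 = e d :=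
        ⟨⟨!![e a, e b; e c, e d], by rw [Matrix.det_fin_two_of]; exact hdetx⟩, by simp⟩
      have hmem : g * x * g⁻¹ * x⁻¹ ∈ N := by
        have h1 : g * x * g⁻¹ * x⁻¹ = g * (x * g⁻¹ * x⁻¹) := by group
        rw [h1]
        exact N.mul_mem hg (hN.conj_mem _ (N.inv_mem hg) x)
      apply hfin _ hmem
      rw [comm_trace, hx00, hx01, hx10, hx11]
      have h5 := congrArg e hT
      simp only [map_add, map_mul, map_sub, map_neg, map_zero, RingEquiv.apply_symm_apply] at h5
      exact h5
  · -- at least five elements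
    have h1 : 1 < Fintype.card F := Fintype.one_lt_card
    have h4 : ¬ (2 = 2 ∧ Fintype.card F ≤ 3) := by
      rintro ⟨-, h5⟩
      obtain ⟨k, hk⟩ := hF
      omega
    have hG : ∀ s : SpecialLinearGroup (Fin 2) F,
        ∀ y ∈ N.map (SpecialLinearGroup.toGL : SpecialLinearGroup (Fin 2) F →* _),
        (SpecialLinearGroup.toGL s) * y * (SpecialLinearGroup.toGL s)⁻¹ ∈
          N.map (SpecialLinearGroup.toGL : SpecialLinearGroup (Fin 2) F →* _) := by
      rintro s _ ⟨y, hy, rfl⟩
      exact ⟨s * y * s⁻¹, hN.conj_mem y hy s, by simp⟩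
    rcases Cfsg.Agent.S2540.result 2 (by norm_num) h4 _ hG with hsc | htop
    · exfalso
      obtain ⟨c, hc⟩ := hsc _ ⟨g, hg, rfl⟩
      have hc' : (g : Matrix (Fin 2) (Fin 2) F) = c • (1 : Matrix (Fin 2) (Fin 2) F) := hc
      have e00 : g 0 0 = c := by
        have := congrFun (congrFun hc' 0) 0
        simpa using this
      have e01 : g 0 1 = 0 := by
        have := congrFun (congrFun hc' 0) 1
        simpa using this
      have e10 : g 1 0 = 0 := by
        have := congrFun (congrFun hc' 1) 0
        simpa using this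
      have e11 : g 1 1 = c := by
        have := congrFun (congrFun hc' 1) 1
        simpa using this
      rw [e00, e01, e11] at hdet
      have hcc : (c - 1) * (c + 1) = 0 := by linear_combination hdet
      rcases mul_eq_zero.mp hcc with h5 | h5
      · apply hg1
        have hc1 : c = 1 := by linear_combination h5
        apply ext2
        · rw [o00, e00, hc1]
        · rw [o01, e01]
        · rw [o10, e10]
        · rw [o11, e11, hc1]
      · apply hg2
        have hc1 : c = -1 := by linear_combination h5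
        apply ext2
        · rw [n00, e00, hc1]
        · rw [n01, e01]
        · rw [n10, e10]
        · rw [n11, e11, hc1]
    · obtain ⟨y, hy, hyW⟩ := htop ⟨W, rfl⟩
      have : y = W := SpecialLinearGroup.toGL_injective hyW
      rw [← this]; exact hy

end Cfsg.Agent.Lib.Helper53.SL2Normal
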