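import Mathlib
import Cfsg.Agent.Lib.Helper53.SL2Inv

set_option autoImplicit false

/-!
Trace arguments in `SL₂(F)`: unipotent elements, centralisers of unipotent elements, commuting
elements of equal trace.
-/

namespace Cfsg.Agent.Lib.Helper53.SL2Unip

open Matrix Cfsg.Agent.Lib.Helper53.SL2Inv

variable {F : Type*} [Field F]

/-- The trace of an element of `SL₂(F)`. -/
def tr (x : SpecialLinearGroup (Fin 2) F) : F := x 0 0 + x 1 1

theorem tr_mul_comm (x y : SpecialLinearGroup (Fin 2) F) : tr (x * y) = tr (y * x) := by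
  obtain ⟨a, -, -, d⟩ := mul_entries x y
  obtain ⟨a', -, -, d'⟩ := mul_entries y x
  unfold tr
  rw [a, d, a', d']
  ring

theorem tr_conj (a x : SpecialLinearGroup (Fin 2) F) : tr (a * x * a⁻¹) = tr x := by
  rw [tr_mul_comm, ← mul_assoc, inv_mul_cancel, one_mul]

theorem tr_sq (x : SpecialLinearGroup (Fin 2) F) : tr (x * x) = tr x ^ 2 - 2 := by
  obtain ⟨a, -, -, d⟩ := mul_entries x x
  unfold tr
  rw [a, d]
  linear_combination (-2 : F) * det_entries x

theorem negOne_comm (g : SpecialLinearGroup (Fin 2) F) : negOne * g = g * negOne := by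
  obtain ⟨m00, m01, m10, m11⟩ := mul_entries (negOne : SpecialLinearGroup (Fin 2) F) g
  obtain ⟨k00, k01, k10, k11⟩ := mul_entries g (negOne : SpecialLinearGroup (Fin 2) F)
  obtain ⟨n00, n01, n10, n11⟩ := negOne_entries (F := F)
  apply ext2
  · rw [m00, k00, n00, n01, n10]; ring
  · rw [m01, k01, n00, n01, n11]; ring
  · rw [m10, k10, n00, n10, n11]; ring
  · rw [m11, k11, n01, n10, n11]; ring

/-- Cayley–Hamilton in `SL₂`. -/
theorem mul_self_eq (x : SpecialLinearGroup (Fin 2) F) :
    (x : Matrix (Fin 2) (Fin 2) F) * x = tr x • (x : Matrix (Fin 2) (Fin 2) F) - 1 := by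
  have hd := det_entries x
  ext i j
  fin_cases i <;> fin_cases j <;>
    simp [Matrix.mul_apply, Fin.sum_univ_two, tr] <;>
    first | ring1 | linear_combination (-1 : F) * hd

/-- An element of trace `2` is unipotent. -/
theorem sub_one_sq (x : SpecialLinearGroup (Fin 2) F) (h : tr x = 2) :
    ((x : Matrix (Fin 2) (Fin 2) F) - 1) * ((x : Matrix (Fin 2) (Fin 2) F) - 1) = 0 := by
  have h1 := mul_self_eq x
  rw [h] at h1
  rw [mul_sub, sub_mul, sub_mul, h1, mul_one, one_mul, one_mul, two_smul]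
  abel

theorem pow_char_eq_one (p : ℕ) [Fact p.Prime] [CharP F p] (x : SpecialLinearGroup (Fin 2) F)
    (h : tr x = 2) : x ^ p = 1 := by
  have hp : p.Prime := Fact.out
  have h1 := sub_pow_char_of_commute p (Commute.one_right (x : Matrix (Fin 2) (Fin 2) F))
  have h2 : ((x : Matrix (Fin 2) (Fin 2) F) - 1) ^ p = 0 := by
    obtain ⟨m, hm⟩ : ∃ m, p = 2 + m := ⟨p - 2, by have := hp.two_le; omega⟩
    rw [hm, pow_add, pow_two, sub_one_sq x h, zero_mul]
  rw [h2, one_pow] at h1
  apply Matrix.SpecialLinearGroup.ext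
  intro i j
  rw [Matrix.SpecialLinearGroup.coe_pow, Matrix.SpecialLinearGroup.coe_one]
  rw [← sub_eq_zero.mp h1.symm]

theorem tr_eq_two_of_pow (p : ℕ) [Fact p.Prime] [CharP F p] (x : SpecialLinearGroup (Fin 2) F)
    (k : ℕ) (h : x ^ (p ^ k) = 1) : tr x = 2 := by
  have hp : p.Prime := Fact.out
  have h0 : (x : Matrix (Fin 2) (Fin 2) F) ^ (p ^ k) = 1 := by
    rw [← Matrix.SpecialLinearGroup.coe_pow, h, Matrix.SpecialLinearGroup.coe_one]
  have h1 := sub_pow_char_pow_of_commute p k (Commute.one_right (x : Matrix (Fin 2) (Fin 2) F))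
  rw [h0, one_pow, sub_self] at h1
  have h2 : ((x : Matrix (Fin 2) (Fin 2) F) - 1).det = 0 := by
    have : ((x : Matrix (Fin 2) (Fin 2) F) - 1).det ^ (p ^ k) = 0 := by
      rw [← Matrix.det_pow, h1, Matrix.det_zero]
    exact pow_eq_zero_iff (pow_ne_zero _ hp.ne_zero) |>.mp this
  rw [Matrix.det_fin_two] at h2
  simp only [Matrix.sub_apply, Matrix.one_apply_eq, Matrix.one_apply_ne, ne_eq, Fin.isValue,
    zero_ne_one, one_ne_zero, not_false_eq_true, sub_zero] at h2
  unfold tr
  linear_combination (-1 : F) * h2 + det_entries x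

/-- An element commuting with a nontrivial unipotent element has trace `±2`. -/
theorem tr_sq_of_commute_unip (h2 : (2 : F) ≠ 0) (a x : SpecialLinearGroup (Fin 2) F)
    (ha : tr a = 2) (ha1 : a ≠ 1) (hc : x * a = a * x) : tr x ^ 2 = 4 := by
  by_contra hD
  obtain ⟨m00, m01, m10, m11⟩ := mul_entries x a
  obtain ⟨k00, k01, k10, k11⟩ := mul_entries a x
  have e1 : x 0 1 * a 1 0 = a 0 1 * x 1 0 := by
    have := congrArg (fun g : SpecialLinearGroup (Fin 2) F => g 0 0) hc
    simp only [m00, k00] at this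
    linear_combination this
  have e2 : x 0 0 * a 0 1 + x 0 1 * a 1 1 = a 0 0 * x 0 1 + a 0 1 * x 1 1 := by
    have := congrArg (fun g : SpecialLinearGroup (Fin 2) F => g 0 1) hc
    simp only [m01, k01] at this
    exact this
  have e3 : x 1 0 * a 0 0 + x 1 1 * a 1 0 = a 1 0 * x 0 0 + a 1 1 * x 1 0 := by
    have := congrArg (fun g : SpecialLinearGroup (Fin 2) F => g 1 0) hc
    simp only [m10, k10] at this
    exact this
  have hdx := det_entries x
  have hda := det_entries a
  unfold tr at ha hD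
  have hD' : (x 0 0 + x 1 1) ^ 2 - 4 ≠ 0 := fun h => hD (sub_eq_zero.mp h)
  have hq : a 0 1 = 0 := by
    have : a 0 1 ^ 2 * ((x 0 0 + x 1 1) ^ 2 - 4) = 0 := by grind
    rcases mul_eq_zero.mp this with h | h
    · exact pow_eq_zero_iff (two_ne_zero) |>.mp h
    · exact absurd h hD'
  have hr : a 1 0 = 0 := by
    have : a 1 0 ^ 2 * ((x 0 0 + x 1 1) ^ 2 - 4) = 0 := by grind
    rcases mul_eq_zero.mp this with h | h
    · exact pow_eq_zero_iff (two_ne_zero) |>.mp h
    · exact absurd h hD'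
  have hps : a 0 0 = a 1 1 := by
    have : (a 0 0 - a 1 1) ^ 2 = 0 := by
      rw [hq, hr] at hda
      linear_combination (a 0 0 + a 1 1 + 2) * ha - 4 * hda
    exact sub_eq_zero.mp (pow_eq_zero_iff (two_ne_zero) |>.mp this)
  apply ha1
  obtain ⟨o00, o01, o10, o11⟩ := one_entries (F := F)
  have h11 : a 1 1 = 1 := by
    have : (2 : F) * (a 1 1 - 1) = 0 := by rw [hps] at ha; linear_combination ha
    rcases mul_eq_zero.mp this with h | h
    · exact absurd h h2
    · exact sub_eq_zero.mp h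
  apply ext2
  · rw [o00, hps, h11]
  · rw [o01, hq]
  · rw [o10, hr]
  · rw [o11, h11]

/-- Commuting elements of `SL₂` with the same trace are equal or inverse, unless the trace
is `±2`. -/
theorem eq_or_of_commute (x y : SpecialLinearGroup (Fin 2) F) (hc : x * y = y * x)
    (ht : tr x = tr y) : tr x ^ 2 = 4 ∨ x = y ∨ x * y = 1 := by
  obtain ⟨X, hX⟩ : ∃ X : Matrix (Fin 2) (Fin 2) F, X = x := ⟨_, rfl⟩
  obtain ⟨Y, hY⟩ : ∃ Y : Matrix (Fin 2) (Fin 2) F, Y = y := ⟨_, rfl⟩
  have hXX : X * X = tr x • X - 1 := by rw [hX]; exact mul_self_eq x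
  have hYY : Y * Y = tr x • Y - 1 := by rw [hY, ht]; exact mul_self_eq y
  have hcm : Y * X = X * Y := by
    rw [hX, hY, ← Matrix.SpecialLinearGroup.coe_mul, ← Matrix.SpecialLinearGroup.coe_mul, hc]
  have hprod : (X * Y - 1) * (X - Y) = 0 := by
    have e1 : X * Y * X = tr x • (X * Y) - Y := by
      rw [mul_assoc, hcm, ← mul_assoc, hXX, sub_mul, one_mul, Matrix.smul_mul]
    have e2 : X * Y * Y = tr x • (X * Y) - X := by
      rw [mul_assoc, hYY, mul_sub, mul_one, Matrix.mul_smul]
    rw [sub_mul, mul_sub, one_mul, e1, e2]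
    abel
  by_cases h1 : (X - Y).det = 0
  · by_cases h2 : (X * Y - 1).det = 0
    · left
      have hdx := det_entries x
      have hdy := det_entries y
      rw [Matrix.det_fin_two] at h1 h2
      simp only [Matrix.sub_apply, Matrix.mul_apply, Fin.sum_univ_two, Matrix.one_apply_eq,
        Matrix.one_apply_ne, ne_eq, Fin.isValue, zero_ne_one, one_ne_zero, not_false_eq_true,
        sub_zero, hX, hY] at h1 h2
      unfold tr at ht ⊢
      grind
    · right; left
      have hu : IsUnit (X * Y - 1) := by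
        rw [Matrix.isUnit_iff_isUnit_det]; exact isUnit_iff_ne_zero.mpr h2
      have h3 : X - Y = 0 := (hu.mul_right_eq_zero).mp hprod
      apply Matrix.SpecialLinearGroup.ext
      intro i j
      rw [← hX, ← hY, sub_eq_zero.mp h3]
  · right; right
    have hu : IsUnit (X - Y) := by
      rw [Matrix.isUnit_iff_isUnit_det]; exact isUnit_iff_ne_zero.mpr h1
    have h3 : X * Y - 1 = 0 := (hu.mul_left_eq_zero).mp hprod
    apply Matrix.SpecialLinearGroup.ext
    intro i j
    rw [Matrix.SpecialLinearGroup.coe_mul, Matrix.SpecialLinearGroup.coe_one, ← hX, ← hY,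
      sub_eq_zero.mp h3]

/-- A `p'`-element of `SL₂(F)` of trace `±2` is `±1` (characteristic `p` odd). -/
theorem eq_one_or_negOne_of_tr (p : ℕ) [Fact p.Prime] [CharP F p] (h2 : (2 : F) ≠ 0)
    (x : SpecialLinearGroup (Fin 2) F) (hx : (orderOf x).Coprime p) (ht : tr x ^ 2 = 4) :
    x = 1 ∨ x = negOne := by
  have h1 : tr (x * x) = 2 := by rw [tr_sq, ht]; norm_num
  have h3 : (x * x) ^ p = 1 := pow_char_eq_one p (x * x) h1
  have h4 : orderOf (x * x) ∣ p := orderOf_dvd_of_pow_eq_one h3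
  have h5 : orderOf (x * x) ∣ orderOf x := by
    rw [← pow_two]; exact orderOf_pow_dvd 2
  have h6 : orderOf (x * x) = 1 := Nat.eq_one_of_dvd_coprimes hx h5 h4
  exact sq_eq_one h2 x (orderOf_eq_one_iff.mp h6)

/-- Key lemma: if `a` is a nontrivial unipotent element of `SL₂(F)` (odd characteristic `p`) and
`x` is a `p'`-element commuting with its conjugate `a x a⁻¹`, then `x = ±1`. -/
theorem eq_one_or_negOne_of_commute_conj (p : ℕ) [Fact p.Prime] [CharP F p] (hp : p ≠ 2)
    (h2 : (2 : F) ≠ 0) (a x : SpecialLinearGroup (Fin 2) F) (ha : tr a = 2) (ha1 : a ≠ 1)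
    (hx : (orderOf x).Coprime p) (hc : x * (a * x * a⁻¹) = a * x * a⁻¹ * x) :
    x = 1 ∨ x = negOne := by
  have hpr : p.Prime := Fact.out
  rcases eq_or_of_commute x (a * x * a⁻¹) hc (tr_conj a x).symm with h | h | h
  · exact eq_one_or_negOne_of_tr p h2 x hx h
  · have hxa : x * a = a * x := by
      have := congrArg (fun g => g * a) h
      simpa [mul_assoc] using this
    exact eq_one_or_negOne_of_tr p h2 x hx (tr_sq_of_commute_unip h2 a x ha ha1 hxa)
  · -- `a x a⁻¹ = x⁻¹`, so `a²` centralises `x`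
    have h1 : a * x * a⁻¹ = x⁻¹ := eq_inv_of_mul_eq_one_right h
    have h3 : a * x⁻¹ * a⁻¹ = x := by
      have : (a * x * a⁻¹)⁻¹ = a * x⁻¹ * a⁻¹ := by group
      rw [← this, h1, inv_inv]
    have h4 : Commute x (a * a) := by
      have h' : (a * a) * x * (a * a)⁻¹ = x := by
        have : (a * a) * x * (a * a)⁻¹ = a * (a * x * a⁻¹) * a⁻¹ := by group
        rw [this, h1, h3]
      show x * (a * a) = a * a * x
      calc x * (a * a) = (a * a * x * (a * a)⁻¹) * (a * a) := by rw [h']
        _ = a * a * x := by group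
    have hap : a ^ p = 1 := pow_char_eq_one p a ha
    obtain ⟨m, hm⟩ : ∃ m, p = 2 * m + 1 := by
      rcases hpr.eq_two_or_odd with h' | h'
      · exact absurd h' hp
      · exact ⟨p / 2, by omega⟩
    have h5 : (a * a) ^ (m + 1) = a := by
      rw [← pow_two, ← pow_mul, show 2 * (m + 1) = p + 1 by omega, pow_succ, hap, one_mul]
    have h6 : Commute x a := by
      have := h4.pow_right (m + 1)
      rwa [h5] at this
    exact eq_one_or_negOne_of_tr p h2 x hx (tr_sq_of_commute_unip h2 a x ha ha1 h6.eq)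

end Cfsg.Agent.Lib.Helper53.SL2Unip
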