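import Mathlib
import Cfsg.Agent.Lib.Helper14.TC3Stmt
import Cfsg.Agent.Lib.Helper3.TDBasic
import Cfsg.Agent.Lib.Helper78.Gallagher
import Cfsg.Agent.Lib.Helper53.TC3W1

/-!
# S4460 piece GALP (helper14's call): a nonabelian `p`-quotient `G/K` gives a degree `p^c`,
`c > 0`, and `p^c ψ(1)` is a degree whenever `p ∤ ψ(1)` (Gallagher).
-/

set_option autoImplicit false

namespace Cfsg.Agent.Lib.Helper53.TC3GALP

open Cfsg Cfsg.Agent.Lib.Helper14.TC3Stmt
open Cfsg.Agent.Lib.Helper80.Integrality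
open scoped ComplexConjugate commutatorElement

universe u

theorem main : GalP.{u} := by
  intro G _ _ K p hKn hp hidx hnc
  classical
  have := hKn
  haveI := Fintype.ofFinite G
  haveI := Fintype.ofFinite K
  -- (i) a nonlinear irreducible character of `G ⧸ K`
  obtain ⟨β, hβ⟩ : ∃ β : IrrCharacter (G ⧸ K), charDegree (β : G ⧸ K → ℂ) ≠ 1 := by
    by_contra hall
    push Not at hall
    apply hnc
    have hcomm := Cfsg.Agent.Lib.Helper3.TDBasic.comm_of_forall_degree_one (G := G ⧸ K) hall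
    rw [commutator_def, Subgroup.commutator_le]
    intro a _ b _
    rw [← QuotientGroup.eq_one_iff]
    have h1 : QuotientGroup.mk' K ⁅a, b⁆ = 1 := by
      rw [map_commutatorElement, commutatorElement_eq_one_iff_mul_comm]
      exact hcomm _ _
    exact h1
  obtain ⟨j, hj⟩ := hidx
  have hdvd : charDegree (β : G ⧸ K → ℂ) ∣ p ^ j := by
    have h1 := charDegree_dvd_card β
    rwa [← Subgroup.index_eq_card, hj] at h1
  obtain ⟨c, -, hc⟩ := (Nat.dvd_prime_pow hp).1 hdvd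
  have hc0 : 0 < c := by
    rcases Nat.eq_zero_or_pos c with h | h
    · rw [h, pow_zero] at hc
      exact absurd hc hβ
    · exact h
  obtain ⟨β', hβ'⟩ : ∃ β' : IrrCharacter G, β' = Cfsg.Agent.Lib.Helper3.TDBasic.infl K β :=
    ⟨_, rfl⟩
  have hβ'deg : charDegree (β' : G → ℂ) = p ^ c := by
    rw [hβ', Cfsg.Agent.Lib.Helper3.TDBasic.charDegree_infl]
    exact hc
  have hβ'1 : (β' : G → ℂ) 1 = ((p ^ c : ℕ) : ℂ) := by
    rw [apply_one_eq_charDegree (isCharacter_of_isIrrCharacter β'.2), hβ'deg]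
  have hβ'K : ∀ h : K, (β' : G → ℂ) h = ((p ^ c : ℕ) : ℂ) := by
    intro h
    rw [← hβ'1, hβ']
    exact Cfsg.Agent.Lib.CT.Kernel.inflation_apply_of_mem K (β : G ⧸ K → ℂ) h.2
  refine ⟨c, hc0, ⟨β', hβ'deg⟩, ?_⟩
  intro ψ hψ
  have hres := Cfsg.Agent.Lib.Helper53.TC3W1.restr_irr K p hp ⟨j, hj⟩ ψ hψ
  have hfr : classInner (indFun K (fun _ : K => (1 : ℂ))) (β' : G → ℂ) ≠ 0 := by
    rw [Cfsg.Agent.Lib.CT.FrobRec.frobenius_reciprocity K (fun _ : K => (1 : ℂ)) (β' : G → ℂ)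
      (Cfsg.Agent.Lib.CT.Orth.irr_isClassFunction β')]
    unfold classInner
    have h1 : ∀ h : K, (1 : ℂ) * conj ((β' : G → ℂ) h) = ((p ^ c : ℕ) : ℂ) := by
      intro h
      rw [hβ'K h, one_mul, Complex.conj_natCast]
    rw [Finset.sum_congr rfl (fun h _ => h1 h), Finset.sum_const, Finset.card_univ,
      nsmul_eq_mul, Nat.card_eq_fintype_card]
    have hK0 : ((Fintype.card K : ℕ) : ℂ) ≠ 0 := Nat.cast_ne_zero.2 Fintype.card_ne_zero
    have hp0 : ((p ^ c : ℕ) : ℂ) ≠ 0 := Nat.cast_ne_zero.2 (pow_pos hp.pos c).ne'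
    rw [← mul_assoc, inv_mul_cancel₀ hK0, one_mul]
    exact hp0
  have hG := (Cfsg.Agent.Lib.Helper78.Gallagher.gallagher_core K hKn (fun _ : K => (1 : ℂ))
    Cfsg.Agent.Lib.CT.Ops.isIrrCharacter_one (fun _ _ => rfl) (ψ : G → ℂ) ψ.2
    (by simpa using hres)).1 β' hfr
  refine ⟨⟨(β' : G → ℂ) * (ψ : G → ℂ), hG.1⟩, ?_⟩
  have h2 := apply_one_eq_charDegree (isCharacter_of_isIrrCharacter ψ.2)
  have h3 : ((β' : G → ℂ) * (ψ : G → ℂ)) 1 = ((p ^ c * charDegree (ψ : G → ℂ) : ℕ) : ℂ) := by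
    rw [Pi.mul_apply, hβ'1, h2]
    push_cast
    ring
  show ⌊(((β' : G → ℂ) * (ψ : G → ℂ)) 1).re⌋₊ = p ^ c * charDegree (ψ : G → ℂ)
  rw [h3, Complex.natCast_re, Nat.floor_natCast]

end Cfsg.Agent.Lib.Helper53.TC3GALP
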