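import Mathlib
import Cfsg.Agent.Lib.Lead.TuanStmt
import Cfsg.Agent.Lib.CT.LinChar
import Cfsg.Agent.Lib.CT.Wedderburn
import Cfsg.Agent.Lib.Helper80.Integrality

/-!
# S0997 part T / EvenDeg: the nontrivial members of `X` have even degree
-/

set_option autoImplicit false

namespace Cfsg.Agent.Lib.Helper53.TSEvenDeg

open Cfsg Cfsg.Agent.Lib.Lead Cfsg.Agent.Lib.Lead.BrHalf Cfsg.Agent.Lib.CT
open scoped ComplexConjugate Classical

universe u

theorem main (hFNat : Tuan.FNat.{u}) : Tuan.EvenDeg.{u} := by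
  intro G _ _ p _ c χ hχ hne
  have hpp : p.Prime := Fact.out
  have hp1 : 1 < p := hpp.one_lt
  have hχc : IsCharacter G (χ : G → ℂ) := Wedderburn.isCharacter_of_irr χ.2
  have hd1 : (charDegree (χ : G → ℂ) : ℂ) = (χ : G → ℂ) 1 := Wedderburn.char_natCast_charDegree hχc
  have hdpos : 0 < charDegree (χ : G → ℂ) := Wedderburn.irr_charDegree_pos χ.2
  have hddvd : charDegree (χ : G → ℂ) ∣ Nat.card G :=
    Cfsg.Agent.Lib.Helper80.Integrality.charDegree_dvd_card χ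
  generalize charDegree (χ : G → ℂ) = d at hd1 hdpos hddvd ⊢
  by_contra hodd
  rw [Nat.not_even_iff_odd] at hodd
  have hnd : ∀ a ∈ Finset.Ico 1 p, ¬ p ∣ a := by
    intro a ha
    rw [Finset.mem_Ico] at ha
    exact Nat.not_dvd_of_pos_of_lt (by omega) ha.2
  obtain ⟨f, hf⟩ := hFNat p c (χ : G → ℂ) hχc
  have hsum : ∑ a ∈ Finset.range p, (χ : G → ℂ) (c.x ^ a) =
      (d : ℂ) + ((p : ℂ) - 1) * (c.εX χ : ℂ) := by
    rw [Finset.range_eq_Ico, Finset.sum_eq_sum_Ico_succ_bot hpp.pos, zero_add, pow_zero,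
      Finset.sum_congr rfl (fun a ha => c.hXval χ hχ a (hnd a ha)), Finset.sum_const,
      Nat.card_Ico, nsmul_eq_mul, Nat.cast_sub hp1.le, Nat.cast_one, hd1]
  have hZ : (d : ℤ) + ((p : ℤ) - 1) * c.εX χ = (p : ℤ) * (f : ℤ) := by
    have h : (((d : ℤ) + ((p : ℤ) - 1) * c.εX χ : ℤ) : ℂ) = (((p : ℤ) * (f : ℤ) : ℤ) : ℂ) := by
      push_cast; rw [← hsum, hf]
    exact_mod_cast h
  have hdvd : (p : ℤ) ∣ (d : ℤ) - c.εX χ := ⟨(f : ℤ) - c.εX χ, by linear_combination hZ⟩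
  have hεabs : (c.εX χ).natAbs = 1 := by
    rcases c.hXε χ hχ with h | h <;> rw [h] <;> rfl
  have hpnd : ¬ p ∣ d := by
    intro hpd
    have h1 : (p : ℤ) ∣ c.εX χ := by
      have h2 := dvd_sub (Int.natCast_dvd_natCast.2 hpd) hdvd
      simpa using h2
    rw [Int.natCast_dvd, hεabs] at h1
    exact hpp.one_lt.ne' (Nat.dvd_one.1 h1)
  have hcop2 : Nat.Coprime d (2 ^ c.b) := Nat.Coprime.pow_right _ (Nat.coprime_two_right.2 hodd)
  have hcopp : Nat.Coprime d p := ((Nat.Prime.coprime_iff_not_dvd hpp).2 hpnd).symm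
  have hde : d ∣ c.e + 1 := by
    have h := hddvd
    rw [c.hcard] at h
    exact Nat.Coprime.dvd_of_dvd_mul_left (Nat.Coprime.mul_right hcop2 hcopp) h
  have hdle : d ≤ c.e + 1 := Nat.le_of_dvd (Nat.succ_pos _) hde
  have he4 : 4 ≤ c.e := by
    rw [c.he]
    calc 4 = 2 ^ 2 := by norm_num
      _ ≤ 2 ^ c.j := Nat.pow_le_pow_right (by norm_num) c.hj
  have hpe := c.hp
  have hd_one : d = 1 := by
    rcases c.hXε χ hχ with h | h
    · rw [h] at hdvd
      have h1 : ((p : ℕ) : ℤ) ∣ ((d - 1 : ℕ) : ℤ) := by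
        rw [Nat.cast_sub hdpos]; simpa using hdvd
      rw [Int.natCast_dvd_natCast] at h1
      have h2 := Nat.eq_zero_of_dvd_of_lt h1 (by omega)
      omega
    · rw [h] at hdvd
      have h1 : ((p : ℕ) : ℤ) ∣ ((d + 1 : ℕ) : ℤ) := by
        push_cast; simpa using hdvd
      rw [Int.natCast_dvd_natCast] at h1
      have h2 := Nat.le_of_dvd (Nat.succ_pos _) h1
      omega
  subst hd_one
  obtain ⟨φ, hφ⟩ := LinChar.exists_hom_of_isCharacter (χ : G → ℂ) hχc (by rw [← hd1]; simp)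
  have hker : φ.ker = ⊥ ∨ φ.ker = ⊤ := by
    have := c.hsimple
    exact (MonoidHom.normal_ker φ).eq_bot_or_eq_top
  rcases hker with hk | hk
  · apply c.hnc
    intro g h
    have hinj : Function.Injective φ := (MonoidHom.ker_eq_bot_iff φ).1 hk
    apply hinj
    rw [map_mul, map_mul, mul_comm]
  · apply hne
    funext g
    rw [hφ g]
    have hg : g ∈ φ.ker := by rw [hk]; trivial
    rw [MonoidHom.mem_ker] at hg
    rw [hg]; rfl

end Cfsg.Agent.Lib.Helper53.TSEvenDeg
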