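import Mathlib
import Cfsg.Agent.Lib.Lead.TuanStmt

/-!
# S0997 part T / FVals: sums of the irreducible characters over the powers of `x`
-/

set_option autoImplicit false

namespace Cfsg.Agent.Lib.Helper53.TSFVals

open Cfsg Cfsg.Agent.Lib.Lead Cfsg.Agent.Lib.Lead.BrHalf
open scoped ComplexConjugate Classical

universe u

theorem main (hColX : Tuan.ColX.{u}) (hPerTot : Tuan.PerTot) : Tuan.FVals.{u} := by
  intro G _ _ p _ c
  have hpp : p.Prime := Fact.out
  have hp1 : 1 < p := hpp.one_lt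
  have hp2 : p ≠ 2 := by have := c.hp; omega
  have hsplit : ∀ f : ℕ → ℂ, ∑ a ∈ Finset.range p, f a = f 0 + ∑ a ∈ Finset.Ico 1 p, f a := by
    intro f
    rw [Finset.range_eq_Ico, Finset.sum_eq_sum_Ico_succ_bot hpp.pos, zero_add]
  have hnd : ∀ a ∈ Finset.Ico 1 p, ¬ p ∣ a := by
    intro a ha
    rw [Finset.mem_Ico] at ha
    exact Nat.not_dvd_of_pos_of_lt (by omega) ha.2
  refine ⟨?_, ?_, ?_, ?_⟩
  · intro χ hχ
    rw [hsplit, pow_zero, Finset.sum_congr rfl (fun a ha => c.hXval χ hχ a (hnd a ha)),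
      Finset.sum_const, Nat.card_Ico, nsmul_eq_mul, Nat.cast_sub hp1.le, Nat.cast_one]
  · have h1 : ∀ a ∈ Finset.range p, (c.θ₁ : G → ℂ) (c.x ^ a) = 1 + per p c.ζ a :=
      fun a _ => c.hθ₁ a
    rw [Finset.sum_congr rfl h1, Finset.sum_add_distrib, hPerTot p hp2 c.ζ c.hζ, Finset.sum_const,
      Finset.card_range]
    simp
  · have h1 : ∀ a ∈ Finset.range p, (c.θ₂ : G → ℂ) (c.x ^ a) = 1 + per p c.ζ (a * c.ν) :=
      fun a _ => c.hθ₂ a
    have hνnd : ¬ p ∣ c.ν := by
      intro hd
      apply c.hν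
      rw [(ZMod.natCast_eq_zero_iff c.ν p).2 hd]
      exact ⟨0, by simp⟩
    have hsum2 : ∑ a ∈ Finset.range p, per p c.ζ (a * c.ν) = 0 := by
      unfold per
      rw [Finset.sum_comm]
      apply Finset.sum_eq_zero
      intro s hs
      have hs' : s ≠ 0 := by
        unfold BrHalf.sq at hs
        exact (Finset.mem_filter.1 hs).2.1
      have hsnd : ¬ p ∣ s.val := by
        intro hd
        apply hs'
        have h0 : s.val = 0 := Nat.eq_zero_of_dvd_of_lt hd (ZMod.val_lt s)
        exact (ZMod.val_eq_zero s).1 h0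
      have hcop : (c.ν * s.val).Coprime p := by
        apply Nat.Coprime.symm
        rw [Nat.Prime.coprime_iff_not_dvd hpp, Nat.Prime.dvd_mul hpp]
        tauto
      have hprim := c.hζ.pow_of_coprime _ hcop
      have h0 := hprim.geom_sum_eq_zero hp1
      rw [← h0]
      apply Finset.sum_congr rfl
      intro a _
      rw [← pow_mul]
      congr 1
      ring
    rw [Finset.sum_congr rfl h1, Finset.sum_add_distrib, hsum2, Finset.sum_const,
      Finset.card_range]
    simp
  · intro χ h1 h2 h3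
    rw [hsplit, pow_zero, Finset.sum_eq_zero (fun a ha => hColX p c χ h1 h2 h3 a (hnd a ha)),
      add_zero]

end Cfsg.Agent.Lib.Helper53.TSFVals
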