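import Mathlib
import Cfsg.Agent.Lib.Lead.TuanStmt

/-!
# S0997 part T / InvBound: the value of a character at an involution inverting `x`

With `S = ∑_a ρ (x ^ a)` and `T = ρ z * S`, the operators `(S ± T) / (2 p)` are idempotent;
their traces `(f ± χ z) / 2` are natural numbers.
-/

set_option autoImplicit false

namespace Cfsg.Agent.Lib.Helper53.TSInvBound

open Cfsg Cfsg.Agent.Lib.Lead Cfsg.Agent.Lib.Lead.BrHalf
open scoped ComplexConjugate Classical

universe u

theorem main : Tuan.InvBound.{u} := by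
  intro G _ _ p _ c χ hχ z hz hzx f hf
  have hpp : p.Prime := Fact.out
  have hp0 : (p : ℂ) ≠ 0 := Nat.cast_ne_zero.2 hpp.ne_zero
  obtain ⟨n, ρ, rfl⟩ := hχ
  have hxp : c.x ^ p = 1 := by
    have h := pow_orderOf_eq_one c.x
    rwa [c.hx] at h
  have hz2 : z * z = 1 := by
    have h := pow_orderOf_eq_one z
    rwa [hz, pow_two] at h
  obtain ⟨S, hS⟩ : ∃ S : Module.End ℂ (Fin n → ℂ), S = ∑ a ∈ Finset.range p, ρ (c.x ^ a) :=
    ⟨_, rfl⟩
  have hshift : ∑ a ∈ Finset.range p, ρ (c.x ^ (a + 1)) = S := by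
    have h1 := Finset.sum_range_succ (fun a => ρ (c.x ^ a)) p
    have h2 := Finset.sum_range_succ' (fun a => ρ (c.x ^ a)) p
    rw [h1] at h2
    simp only [hxp, pow_zero] at h2
    rw [hS]
    exact (add_right_cancel h2).symm
  have hxS : ρ c.x * S = S := by
    nth_rewrite 1 [hS]
    rw [Finset.mul_sum, ← hshift]
    apply Finset.sum_congr rfl
    intro a _
    rw [← map_mul, pow_succ']
  have hxaS : ∀ a : ℕ, ρ (c.x ^ a) * S = S := by
    intro a
    induction a with
    | zero => simp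
    | succ k ih => rw [pow_succ, map_mul, mul_assoc, hxS, ih]
  have hSS : S * S = (p : ℂ) • S := by
    nth_rewrite 1 [hS]
    rw [Finset.sum_mul, Finset.sum_congr rfl (fun a _ => hxaS a), Finset.sum_const,
      Finset.card_range, Nat.cast_smul_eq_nsmul]
  have hZZ : ρ z * ρ z = 1 := by rw [← map_mul, hz2, map_one]
  have hzxa : ∀ a : ℕ, z * c.x ^ a = (c.x ^ a)⁻¹ * z := by
    intro a
    have h1 : z * c.x ^ a * z⁻¹ = (c.x ^ a)⁻¹ := by
      rw [← conj_pow, hzx, inv_pow]
    rw [← h1]; group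
  have hinv : ∑ a ∈ Finset.range p, ρ ((c.x ^ a)⁻¹) = S := by
    have h := Finset.sum_range_reflect (fun j => ρ (c.x ^ (j + 1))) p
    beta_reduce at h
    rw [← hshift, ← h]
    apply Finset.sum_congr rfl
    intro a ha
    rw [Finset.mem_range] at ha
    congr 1
    apply inv_eq_of_mul_eq_one_right
    rw [← pow_add]
    have h3 : a + (p - 1 - a + 1) = p := by omega
    rw [h3, hxp]
  have hZS : ρ z * S = S * ρ z := by
    calc ρ z * S = ∑ a ∈ Finset.range p, ρ z * ρ (c.x ^ a) := by rw [hS, Finset.mul_sum]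
      _ = ∑ a ∈ Finset.range p, ρ ((c.x ^ a)⁻¹) * ρ z := by
          apply Finset.sum_congr rfl
          intro a _
          rw [← map_mul, hzxa, map_mul]
      _ = S * ρ z := by rw [← Finset.sum_mul, hinv]
  have htrS : LinearMap.trace ℂ (Fin n → ℂ) S = (p : ℂ) * f := by
    rw [hS, map_sum]; exact hf
  obtain ⟨T, hT⟩ : ∃ T : Module.End ℂ (Fin n → ℂ), T = ρ z * S := ⟨_, rfl⟩
  have htrT : LinearMap.trace ℂ (Fin n → ℂ) T = (p : ℂ) * ρ.character z := by
    rw [hT, hS, Finset.mul_sum, map_sum]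
    have hterm : ∀ a ∈ Finset.range p,
        LinearMap.trace ℂ (Fin n → ℂ) (ρ z * ρ (c.x ^ a)) = ρ.character z := by
      intro a _
      rw [← map_mul]
      show ρ.character (z * c.x ^ a) = ρ.character z
      have hi : c.x ^ (a * ((p + 1) / 2) + a * ((p + 1) / 2)) = c.x ^ a := by
        have h2 : a * ((p + 1) / 2) + a * ((p + 1) / 2) = p * a + a := by
          have h3 : 2 * ((p + 1) / 2) = p + 1 := by have := c.hp; omega
          calc a * ((p + 1) / 2) + a * ((p + 1) / 2) = a * (2 * ((p + 1) / 2)) := by ring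
            _ = a * (p + 1) := by rw [h3]
            _ = p * a + a := by ring
        rw [h2, pow_add, pow_mul, hxp, one_pow, one_mul]
      have hconj : z * c.x ^ a = (c.x ^ (a * ((p + 1) / 2)))⁻¹ * z *
          ((c.x ^ (a * ((p + 1) / 2)))⁻¹)⁻¹ := by
        rw [inv_inv, ← hzxa, mul_assoc, ← pow_add, hi]
      rw [hconj, Representation.char_conj]
    rw [Finset.sum_congr rfl hterm, Finset.sum_const, Finset.card_range, nsmul_eq_mul]
  have hTS : T * S = (p : ℂ) • T := by rw [hT, mul_assoc, hSS, mul_smul_comm]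
  have hST : S * T = (p : ℂ) • T := by
    rw [hT, ← mul_assoc, ← hZS, mul_assoc, hSS, mul_smul_comm]
  have hTT : T * T = (p : ℂ) • S := by
    rw [hT]
    calc ρ z * S * (ρ z * S) = ρ z * (S * ρ z) * S := by noncomm_ring
      _ = ρ z * (ρ z * S) * S := by rw [hZS]
      _ = (ρ z * ρ z) * (S * S) := by noncomm_ring
      _ = (p : ℂ) • S := by rw [hZZ, hSS, one_mul]
  have hE1 : IsIdempotentElem ((2 * (p : ℂ))⁻¹ • (S + T)) := by
    unfold IsIdempotentElem
    rw [smul_mul_smul_comm, add_mul, mul_add, mul_add, hSS, hST, hTS, hTT]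
    have h1 : (p : ℂ) • S + (p : ℂ) • T + ((p : ℂ) • T + (p : ℂ) • S) =
        (2 * (p : ℂ)) • (S + T) := by module
    rw [h1, smul_smul]
    congr 1
    field_simp
  have hE2 : IsIdempotentElem ((2 * (p : ℂ))⁻¹ • (S - T)) := by
    unfold IsIdempotentElem
    rw [smul_mul_smul_comm, sub_mul, mul_sub, mul_sub, hSS, hST, hTS, hTT]
    have h1 : (p : ℂ) • S - (p : ℂ) • T - ((p : ℂ) • T - (p : ℂ) • S) =
        (2 * (p : ℂ)) • (S - T) := by module
    rw [h1, smul_smul]
    congr 1
    field_simp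
  have h1 := (LinearMap.IsIdempotentElem.isProj_range _ hE1).trace
  have h2 := (LinearMap.IsIdempotentElem.isProj_range _ hE2).trace
  rw [map_smul, map_add, htrS, htrT, smul_eq_mul] at h1
  rw [map_smul, map_sub, htrS, htrT, smul_eq_mul] at h2
  generalize Module.finrank ℂ ↥(LinearMap.range ((2 * (p : ℂ))⁻¹ • (S + T))) = n1 at h1
  generalize Module.finrank ℂ ↥(LinearMap.range ((2 * (p : ℂ))⁻¹ • (S - T))) = n2 at h2
  have hsum : (f : ℂ) = ((n1 + n2 : ℕ) : ℂ) := by
    push_cast
    rw [← h1, ← h2]; field_simp; ring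
  have hdiff : ρ.character z = (n1 : ℂ) - (n2 : ℂ) := by
    rw [← h1, ← h2]; field_simp; ring
  have hf' : f = n1 + n2 := by exact_mod_cast hsum
  refine ⟨(n1 : ℤ) - (n2 : ℤ), by rw [hdiff]; push_cast; ring, ?_⟩
  rw [abs_le]
  constructor <;> omega

end Cfsg.Agent.Lib.Helper53.TSInvBound
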