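import Mathlib
import Cfsg.Agent.Lib.Helper39.SLMinTv

/-!
For non-scalar `A, B ∈ M_N(F)`, `N ≥ 3`, the trace `tr (A g B g⁻¹)`, `g ∈ SL_N(F)`, takes every
value of `F` (conjugate along a one-parameter transvection group on which the trace is an
affine function with non-zero slope).
-/

set_option autoImplicit false

namespace Cfsg.Agent.Lib.Helper53.TraceConj

open Matrix
open Cfsg.Agent.Lib.Helper39.LSHerm Cfsg.Agent.Lib.Helper39.SLMinTv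
open scoped LinearAlgebra.Projectivization

variable {F : Type*} [Field F] {N : ℕ}

theorem trace_mid (M M' : Matrix (Fin N) (Fin N) F) (v φ : Fin N → F) :
    trace (M * vecMulVec v φ * M') = φ ⬝ᵥ (M' *ᵥ (M *ᵥ v)) := by
  rw [Matrix.mul_vecMulVec, Matrix.vecMulVec_mul, Matrix.trace_vecMulVec, dotProduct_comm,
    ← Matrix.dotProduct_mulVec]

theorem vmv_neg (v φ : Fin N → F) : vecMulVec v (-φ) = -vecMulVec v φ := by
  ext i j
  simp [vecMulVec_apply]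

theorem trace_tv (A X : Matrix (Fin N) (Fin N) F) (v φ : Fin N → F)
    (h : φ ⬝ᵥ (A *ᵥ v) = 0) :
    trace (A * tv v φ * X * tv v (-φ)) =
      trace (A * X) + φ ⬝ᵥ (X *ᵥ (A *ᵥ v)) - φ ⬝ᵥ (A *ᵥ (X *ᵥ v)) := by
  have e : A * tv v φ * X * tv v (-φ) = A * X + A * vecMulVec v φ * X -
      A * X * vecMulVec v φ * 1 - A * (vecMulVec v φ * (X * vecMulVec v φ)) := by
    unfold tv
    rw [vmv_neg]
    noncomm_ring
  have h4 : trace (A * (vecMulVec v φ * (X * vecMulVec v φ))) = 0 := by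
    rw [Matrix.mul_vecMulVec, Matrix.vecMulVec_mul_vecMulVec, Matrix.mul_vecMulVec,
      Matrix.trace_vecMulVec, dotProduct_smul, dotProduct_comm (A *ᵥ v) φ, h, smul_zero]
  rw [e, Matrix.trace_sub, Matrix.trace_sub, Matrix.trace_add, trace_mid, trace_mid, h4]
  simp only [Matrix.mulVec_mulVec, Matrix.one_mul, sub_zero]

theorem sigma_shift (A X0 : Matrix (Fin N) (Fin N) F) (u φ θ : Fin N → F)
    (hφu : φ ⬝ᵥ u = 0) (hθu : θ ⬝ᵥ u = 0) (hφw : φ ⬝ᵥ (A *ᵥ u) = 0) :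
    φ ⬝ᵥ ((tv u (-θ) * X0 * tv u θ) *ᵥ (A *ᵥ u)) -
        φ ⬝ᵥ (A *ᵥ ((tv u (-θ) * X0 * tv u θ) *ᵥ u)) =
      (φ ⬝ᵥ (X0 *ᵥ (A *ᵥ u)) - φ ⬝ᵥ (A *ᵥ (X0 *ᵥ u))) +
        (θ ⬝ᵥ (A *ᵥ u)) * (φ ⬝ᵥ (X0 *ᵥ u)) := by
  have h1 : (tv u (-θ) * X0 * tv u θ) *ᵥ u = X0 *ᵥ u - (θ ⬝ᵥ (X0 *ᵥ u)) • u := by
    rw [← Matrix.mulVec_mulVec, ← Matrix.mulVec_mulVec, tv_mulVec u θ u, hθu, zero_smul,
      add_zero, tv_mulVec u (-θ), neg_dotProduct, neg_smul, sub_eq_add_neg]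
  have h2 : (tv u (-θ) * X0 * tv u θ) *ᵥ (A *ᵥ u) =
      X0 *ᵥ (A *ᵥ u) + (θ ⬝ᵥ (A *ᵥ u)) • (X0 *ᵥ u) -
        (θ ⬝ᵥ (X0 *ᵥ (A *ᵥ u) + (θ ⬝ᵥ (A *ᵥ u)) • (X0 *ᵥ u))) • u := by
    rw [← Matrix.mulVec_mulVec, ← Matrix.mulVec_mulVec, tv_mulVec u θ (A *ᵥ u),
      Matrix.mulVec_add, Matrix.mulVec_smul, tv_mulVec u (-θ), neg_dotProduct, neg_smul,
      sub_eq_add_neg]
  rw [h1, h2]
  simp only [Matrix.mulVec_sub, Matrix.mulVec_smul, dotProduct_sub, dotProduct_add,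
    dotProduct_smul, hφu, hφw, smul_eq_mul, mul_zero, sub_zero]
  ring

theorem tS_inv' (a φ : Fin N → F) (h : φ ⬝ᵥ a = 0) : (tS a φ)⁻¹ = tS a (-φ) := by
  have h' : (-φ) ⬝ᵥ a = 0 := by rw [neg_dotProduct, h, neg_zero]
  rw [inv_eq_iff_mul_eq_one, tS_mul_right a φ (-φ) h h', add_neg_cancel, tS_zero_right]

theorem inv_mulVec_cancel (h : Matrix.SpecialLinearGroup (Fin N) F) (v : Fin N → F) :
    (h⁻¹ : Matrix.SpecialLinearGroup (Fin N) F).1 *ᵥ (h.1 *ᵥ v) = v := by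
  rw [Matrix.mulVec_mulVec, ← Matrix.SpecialLinearGroup.coe_mul, inv_mul_cancel,
    Matrix.SpecialLinearGroup.coe_one, Matrix.one_mulVec]

/-- the trace of `A · (g B g⁻¹)` takes every value -/
theorem exists_trace (hN : 3 ≤ N) (A B : Matrix (Fin N) (Fin N) F)
    (hA : ∃ u : Fin N → F, ∀ c : F, A *ᵥ u ≠ c • u)
    (hB : ∃ x : Fin N → F, ∀ c : F, B *ᵥ x ≠ c • x) (t : F) :
    ∃ g : Matrix.SpecialLinearGroup (Fin N) F,
      Matrix.trace (A * g.1 * B * (g⁻¹ : Matrix.SpecialLinearGroup (Fin N) F).1) = t := by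
  classical
  obtain ⟨u, hu⟩ := hA
  obtain ⟨x, hx⟩ := hB
  have hu0 : u ≠ 0 := by
    rintro rfl
    exact hu 0 (by rw [Matrix.mulVec_zero, smul_zero])
  have hx0 : x ≠ 0 := by
    rintro rfl
    exact hx 0 (by rw [Matrix.mulVec_zero, smul_zero])
  have hy0 : B *ᵥ x ≠ 0 := fun h => hx 0 (by rw [h, zero_smul])
  obtain ⟨φ, hφ0, hφu', hφw'⟩ := exists_ker2 hN u (A *ᵥ u)
  have hφu : φ ⬝ᵥ u = 0 := by rw [dotProduct_comm]; exact hφu'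
  have hφw : φ ⬝ᵥ (A *ᵥ u) = 0 := by rw [dotProduct_comm]; exact hφw'
  obtain ⟨θ, hθu, hθw⟩ := exists_perp_ne u (A *ᵥ u) hu0 hu
  obtain ⟨i, hi⟩ := exists_coord_ne φ hφ0
  have hy' : φ ⬝ᵥ (Pi.single i 1 : Fin N → F) = φ i := by rw [dotProduct_single, mul_one]
  have hy'0 : (Pi.single i 1 : Fin N → F) ≠ 0 := by
    intro h
    rw [h, dotProduct_zero] at hy'
    exact hi hy'.symm
  have h2 : MulAction.IsMultiplyPretransitive (Matrix.SpecialLinearGroup (Fin N) F)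
      (ℙ F (Fin N → F)) 2 := inferInstance
  rw [MulAction.is_two_pretransitive_iff] at h2
  have hne1 : Projectivization.mk F (B *ᵥ x) hy0 ≠ Projectivization.mk F x hx0 := by
    intro h
    rw [Projectivization.mk_eq_mk_iff'] at h
    obtain ⟨a, ha⟩ := h
    exact hx a ha.symm
  have hne2 : Projectivization.mk F (Pi.single i 1 : Fin N → F) hy'0 ≠
      Projectivization.mk F u hu0 := by
    intro h
    rw [Projectivization.mk_eq_mk_iff'] at h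
    obtain ⟨a, ha⟩ := h
    rw [← ha, dotProduct_smul, hφu, smul_zero] at hy'
    exact hi hy'.symm
  obtain ⟨h, h1, h2'⟩ := h2 (Ne.symm hne1) (Ne.symm hne2)
  rw [Projectivization.smul_mk, Projectivization.mk_eq_mk_iff'] at h1 h2'
  obtain ⟨a, ha⟩ := h1
  obtain ⟨a', ha'⟩ := h2'
  have ha1 : a • u = h.1 *ᵥ x := ha
  have ha1' : a' • (Pi.single i 1 : Fin N → F) = h.1 *ᵥ (B *ᵥ x) := ha'
  have ha0 : a ≠ 0 := by
    rintro rfl
    rw [zero_smul] at ha1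
    have := inv_mulVec_cancel h x
    rw [← ha1, Matrix.mulVec_zero] at this
    exact hx0 this.symm
  have ha0' : a' ≠ 0 := by
    rintro rfl
    rw [zero_smul] at ha1'
    have := inv_mulVec_cancel h (B *ᵥ x)
    rw [← ha1', Matrix.mulVec_zero] at this
    exact hy0 this.symm
  obtain ⟨X0, hX0def⟩ : ∃ X0 : Matrix (Fin N) (Fin N) F,
      X0 = h.1 * B * (h⁻¹ : Matrix.SpecialLinearGroup (Fin N) F).1 := ⟨_, rfl⟩
  have hX0u : X0 *ᵥ u = (a⁻¹ * a') • (Pi.single i 1 : Fin N → F) := by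
    have hu' : u = a⁻¹ • (h.1 *ᵥ x) := by
      rw [← ha1, smul_smul, inv_mul_cancel₀ ha0, one_smul]
    rw [hX0def]
    nth_rewrite 1 [hu']
    rw [Matrix.mulVec_smul, ← Matrix.mulVec_mulVec, ← Matrix.mulVec_mulVec, inv_mulVec_cancel,
      ← ha1', smul_smul]
  have hX0 : φ ⬝ᵥ (X0 *ᵥ u) ≠ 0 := by
    rw [hX0u, dotProduct_smul, hy', smul_eq_mul]
    exact mul_ne_zero (mul_ne_zero (inv_ne_zero ha0) ha0') hi
  obtain ⟨k, hk⟩ : ∃ k : Matrix.SpecialLinearGroup (Fin N) F,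
      φ ⬝ᵥ ((k.1 * B * (k⁻¹ : Matrix.SpecialLinearGroup (Fin N) F).1) *ᵥ (A *ᵥ u)) -
        φ ⬝ᵥ (A *ᵥ ((k.1 * B * (k⁻¹ : Matrix.SpecialLinearGroup (Fin N) F).1) *ᵥ u)) ≠ 0 := by
    by_cases hs : φ ⬝ᵥ (X0 *ᵥ (A *ᵥ u)) - φ ⬝ᵥ (A *ᵥ (X0 *ᵥ u)) = 0
    · refine ⟨tS u (-θ) * h, ?_⟩
      have hnθ : (-θ) ⬝ᵥ u = 0 := by rw [neg_dotProduct, hθu, neg_zero]
      have hcoe : (tS u (-θ) * h).1 * B *
          ((tS u (-θ) * h)⁻¹ : Matrix.SpecialLinearGroup (Fin N) F).1 =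
          tv u (-θ) * X0 * tv u θ := by
        rw [_root_.mul_inv_rev, tS_inv' u (-θ) hnθ, neg_neg, hX0def]
        show (tS u (-θ)).1 * h.1 * B *
          ((h⁻¹ : Matrix.SpecialLinearGroup (Fin N) F).1 * (tS u θ).1) = _
        rw [tS_coe _ _ hnθ, tS_coe _ _ hθu]
        simp only [Matrix.mul_assoc]
      rw [hcoe, sigma_shift A X0 u φ θ hφu hθu hφw, hs, zero_add]
      exact mul_ne_zero hθw hX0
    · exact ⟨h, by rw [← hX0def]; exact hs⟩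
  obtain ⟨X, hXdef⟩ : ∃ X : Matrix (Fin N) (Fin N) F,
      X = k.1 * B * (k⁻¹ : Matrix.SpecialLinearGroup (Fin N) F).1 := ⟨_, rfl⟩
  rw [← hXdef] at hk
  obtain ⟨s, hs⟩ : ∃ s : F, s = (t - trace (A * X)) /
      (φ ⬝ᵥ (X *ᵥ (A *ᵥ u)) - φ ⬝ᵥ (A *ᵥ (X *ᵥ u))) := ⟨_, rfl⟩
  have hφsu : φ ⬝ᵥ (s • u) = 0 := by rw [dotProduct_smul, hφu, smul_zero]
  have hnφ : (-φ) ⬝ᵥ (s • u) = 0 := by rw [neg_dotProduct, hφsu, neg_zero]
  refine ⟨tS (s • u) φ * k, ?_⟩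
  have hcoe : A * (tS (s • u) φ * k).1 * B *
      ((tS (s • u) φ * k)⁻¹ : Matrix.SpecialLinearGroup (Fin N) F).1 =
      A * tv (s • u) φ * X * tv (s • u) (-φ) := by
    rw [_root_.mul_inv_rev, tS_inv' (s • u) φ hφsu, hXdef]
    show A * ((tS (s • u) φ).1 * k.1) * B *
      ((k⁻¹ : Matrix.SpecialLinearGroup (Fin N) F).1 * (tS (s • u) (-φ)).1) = _
    rw [tS_coe _ _ hφsu, tS_coe _ _ hnφ]
    simp only [Matrix.mul_assoc]
  rw [hcoe, trace_tv A X (s • u) φ (by rw [Matrix.mulVec_smul, dotProduct_smul, hφw, smul_zero]),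
    Matrix.mulVec_smul, Matrix.mulVec_smul, Matrix.mulVec_smul, Matrix.mulVec_smul,
    dotProduct_smul, dotProduct_smul, smul_eq_mul, smul_eq_mul, hs]
  field_simp
  ring

end Cfsg.Agent.Lib.Helper53.TraceConj
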